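import Cfsg.Agent.SixTwo.Words

/-!
Every `3.U4(3)` in `SU (6, 2)` is conjugate to one of three.
-/

set_option autoImplicit false

namespace CfsgLib.SixTwo

open Matrix CfsgLib.UThree CfsgLib.UFourThree
open scoped Pointwise

variable {F : Type*} [Field F] [Fintype F] (ω : Omega F)

theorem quot_transfer {G H : Type*} [Group G] [Group H] (f : G ≃* H) :
    Nat.card (Subgroup.center H) = Nat.card (Subgroup.center G) ∧
      Nonempty (G ⧸ Subgroup.center G ≃* H ⧸ Subgroup.center H) := by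
  have hmap : (Subgroup.center G).map f.toMonoidHom = Subgroup.center H := by
    ext z
    rw [Subgroup.mem_map_equiv, Subgroup.mem_center_iff, Subgroup.mem_center_iff]
    constructor
    · intro h g
      simpa using congrArg f (h (f.symm g))
    · intro h g
      exact f.injective (by simpa using h (f g))
  exact ⟨by rw [← hmap, Subgroup.card_map_of_injective (show Function.Injective f.toMonoidHom from f.injective)],
    ⟨QuotientGroup.congr _ _ f hmap⟩⟩

include ω in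
theorem Omega.factor_three : (Nat.card (Cfsg.SU 6 F 2)).factorization 3 = 7 := by
  rw [ω.card_group, show (27590492160 : ℕ) = 3 ^ 7 * 12615680 by norm_num,
    Nat.factorization_mul (by norm_num) (by norm_num), Nat.Prime.factorization_pow (by norm_num)]
  simp [Nat.factorization_eq_zero_of_not_dvd (show ¬ 3 ∣ 12615680 by norm_num)]

/-- The Sylow subgroup as such. -/
def Omega.sylow : Sylow 3 (Cfsg.SU 6 F 2) :=
  haveI : Fact (Nat.Prime 3) := ⟨by norm_num⟩
  Sylow.ofCard ω.syl (by rw [ω.card_syl, ω.factor_three]; rfl)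

include ω in
/-- A subgroup of order divisible by `3 ^ 7` has a conjugate containing `P`. -/
theorem Omega.exists_conj_syl {K : Subgroup (Cfsg.SU 6 F 2)} (h : 3 ^ 7 ∣ Nat.card K) :
    ∃ g : Cfsg.SU 6 F 2, ω.syl ≤ K.map (MulAut.conj g).toMonoidHom := by
  haveI : Fact (Nat.Prime 3) := ⟨by norm_num⟩
  obtain ⟨P0, hP0⟩ := Sylow.exists_subgroup_card_pow_prime 3 h
  let P1 : Sylow 3 (Cfsg.SU 6 F 2) := Sylow.ofCard (P0.map K.subtype) (by
    rw [Subgroup.card_map_of_injective K.subtype_injective, hP0, ω.factor_three])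
  obtain ⟨g, hg⟩ := MulAction.exists_smul_eq (Cfsg.SU 6 F 2) P1 ω.sylow
  refine ⟨g, fun x hx => ?_⟩
  have hx' : x ∈ ((g • P1 : Sylow 3 (Cfsg.SU 6 F 2)) : Subgroup (Cfsg.SU 6 F 2)) := by rw [hg]; exact hx
  rw [Sylow.coe_subgroup_smul] at hx'
  obtain ⟨y, hy, rfl⟩ := hx'
  exact ⟨y, Subgroup.map_subtype_le P0 hy, rfl⟩

/-- The swap. -/
def Omega.swapElt : Cfsg.SU 6 F 2 := ω.mono 0 (by simp) (Equiv.swap 0 1)

theorem Omega.mat_swapElt : matOf ω.swapElt = ω.mat swapC := by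
  rw [gens_mono.2.2, ω.mat_monoC]; rfl

theorem Omega.swapElt_notMem : ω.swapElt ∉ ω.monoAlt := by
  rintro ⟨v, π, hπ, e⟩
  obtain ⟨-, rfl⟩ := ω.monoMat_inj ((ω.mat_mono _ _ _).symm.trans e)
  simp at hπ

theorem Omega.swapElt_mul {n : Cfsg.SU 6 F 2} (h : n ∈ ω.monoFull) (h' : n ∉ ω.monoAlt) :
    ω.swapElt * n ∈ ω.monoAlt := by
  obtain ⟨v, π, -, hn⟩ := h
  have hs : Equiv.Perm.sign π = -1 :=
    (Int.units_eq_one_or _).resolve_left fun e => h' ⟨v, π, e, hn⟩
  refine ⟨_, Equiv.swap 0 1 * π, ?_, by rw [matOf_mul, Omega.swapElt, ω.mat_mono, hn, ω.monoMat_mul]⟩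
  simp [Equiv.Perm.mem_alternatingGroup, Equiv.Perm.sign_mul, hs]

theorem Omega.swapElt_sq : ω.swapElt * ω.swapElt = 1 := matOf_injective (by
  rw [matOf_mul, Omega.swapElt, ω.mat_mono, ω.monoMat_mul, Equiv.swap_mul_self, matOf_one, ← ω.monoMat_one]
  congr 1
  all_goals (funext i; simp))

theorem blockConst_fix : ∀ a b : ZMod 3, ∀ u : Fin 6 → ZMod 3, BlockConst u →
    ∀ i, u ((pairPerm a b)⁻¹ i) = u i := by
  decide +kernel

theorem Omega.block_commute {x y : Cfsg.SU 6 F 2} {u : Fin 6 → ZMod 3} (hu : BlockConst u)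
    (hx : matOf x = ω.monoMat u 1) (hy : y ∈ ω.syl) : x * y = y * x := by
  obtain ⟨v, π, ⟨a, b, rfl⟩, hv⟩ := hy
  refine matOf_injective ?_
  rw [matOf_mul, matOf_mul, hx, hv, ω.monoMat_mul, ω.monoMat_mul, mul_one, one_mul]
  congr 1
  funext i
  rw [blockConst_fix a b u hu i, inv_one, Equiv.Perm.one_apply, add_comm]

theorem Omega.diag_commute {x y : Cfsg.SU 6 F 2} (hx : x ∈ ω.diagSub) (hy : y ∈ ω.diagSub) : x * y = y * x := by
  obtain ⟨u, π, hπ, hu⟩ := hx
  obtain ⟨v, σ, hσ, hv⟩ := hy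
  rw [Subgroup.mem_bot] at hπ hσ
  subst hπ hσ
  refine matOf_injective ?_
  rw [matOf_mul, matOf_mul, hu, hv, ω.monoMat_mul, ω.monoMat_mul]
  congr 1
  funext i
  simp [add_comm]

include ω in
/-- Nonzero entries link the exponents of two diagonal elements exchanged by a member. -/
theorem Omega.entry_link {h x y : Cfsg.SU 6 F 2} {u u' : Fin 6 → ZMod 3} (hx : matOf x = ω.monoMat u 1)
    (hy : matOf y = ω.monoMat u' 1) (e : h * x = y * h) {i j : Fin 6} (hij : matOf h i j ≠ 0) : u j = u' i := by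
  have h1 := congrFun (congrFun (congrArg matOf e) i) j
  rw [matOf_mul, matOf_mul, hx, hy, Matrix.mul_apply, Finset.sum_eq_single j, Matrix.mul_apply,
    Finset.sum_eq_single i] at h1
  · simp only [Omega.monoMat, Matrix.of_apply, Equiv.Perm.one_apply, if_true] at h1
    exact ω.cube_inj (mul_left_cancel₀ hij (h1.trans (mul_comm _ _)))
  · intro b _ hb; simp [Omega.monoMat, hb]
  · simp
  · intro b _ hb; simp [Omega.monoMat, Ne.symm hb]
  · simp

theorem block_cases : ∀ a b a' b' : ZMod 3, a ≠ b → (a = a' ∨ a = b') → (b = a' ∨ b = b') →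
    (a = a' ∧ b = b') ∨ (a = b' ∧ b = a') := by decide +kernel

theorem blockConst_apply : ∀ u : Fin 6 → ZMod 3, BlockConst u →
    ∀ i : Fin 6, u i = if i.val < 3 then u 0 else u 3 := by
  decide +kernel

/-- The permutation exchanging the blocks, even. -/
def flipPerm : Equiv.Perm (Fin 6) := Equiv.swap 0 3 * Equiv.swap 1 4 * Equiv.swap 2 5 * Equiv.swap 0 1

theorem flipPerm_facts : Equiv.Perm.sign flipPerm = 1 ∧ (∀ j : Fin 6, (flipPerm j).val < 3 ↔ ¬ j.val < 3) := by
  decide +kernel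

/-- The element normalising the centre of `P`. -/
def Omega.second : Cfsg.SU 6 F 2 := (secondWord.map ω.gen).prod

theorem Omega.mat_second : matOf ω.second = ω.mat secondC := by
  have hall : ∀ w : List ℕ, (∀ k ∈ w, k < 10) →
      matOf (w.map ω.gen).prod = ω.mat (prodM (w.map fun k => gensC.getD k [])) := by
    intro w
    induction w with
    | nil => intro _; rw [List.map_nil, List.map_nil, List.prod_nil, prodM, ω.mat_one, matOf_one]
    | cons k w ih =>
      intro hw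
      rw [List.map_cons, List.map_cons, List.prod_cons, prodM, ω.mat_mul, matOf_mul,
        ih fun j hj => hw j (List.mem_cons_of_mem _ hj), ω.mat_gen (hw k (by simp))]
  rw [Omega.second, hall _ (by decide), five_ok.2.2.2]

theorem Omega.second_mem : ω.second ∈ ω.kSub 0 :=
  list_prod_mem fun x hx => by obtain ⟨k, -, rfl⟩ := List.mem_map.1 hx; exact ω.gen_mem k

theorem Omega.second_not_mono : ω.second ∉ ω.monoFull := by
  rintro ⟨v, π, -, e⟩
  obtain ⟨-, i, i', j, hne, h1, h2⟩ := second_conj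
  rw [ω.mat_second] at e
  have hnz : ∀ i : Fin 6, ent secondC i j ≠ 0 → π j = i := by
    intro i hi
    by_contra hπ
    apply hi
    refine ω.val_inj (Nat.mod_lt _ (by norm_num)) (by norm_num) ?_
    have := congrFun (congrFun e i) j
    rw [ω.val_zero]
    simpa [Omega.mat, Omega.monoMat, hπ] using this
  exact hne ((hnz i h1).symm.trans (hnz i' h2))

variable {F9 : Type*} [Field F9] [Fintype F9] (hF9 : Fintype.card F9 = 9)
include hF9

theorem Omega.cand_cases {K : Subgroup (Cfsg.SU 6 F 2)} (hcard : Nat.card K = 9797760) (hM : ω.monoAlt ≤ K)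
    (hint : ∀ g ∈ K, g ∈ ω.monoFull → g ∈ ω.monoAlt) (a b : Fin 4) (e : Bool)
    (hne : ¬ (a = 0 ∧ b = 0 ∧ e = false)) (hg : ω.cand a b e ∈ K) : ∃ c, K = ω.kSub c := by
  have h := List.all_eq_true.1 (List.all_eq_true.1 cand_ok (4 * a.val + b.val)
    (List.mem_range.2 (by omega))) (if e then 1 else 0) (List.mem_range.2 (by cases e <;> simp))
  simp only [Bool.or_eq_true, Bool.and_eq_true, beq_iff_eq, List.any_eq_true] at h
  obtain ⟨r, hr, ⟨h0, h1⟩, hcert⟩ := h.resolve_left fun hh => hne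
    ⟨Fin.ext (by have := hh.1; simp only [Fin.val_zero]; omega),
      Fin.ext (by have := hh.1; simp only [Fin.val_zero]; omega), by cases e <;> simp_all⟩
  have hw : ∀ k ∈ r.drop 4, k < 10 :=
    (by decide +kernel : ∀ r ∈ candC, ∀ k ∈ r.drop 4, k < 10) r hr
  have hmat := ω.mat_word_one (ω.mat_cand a b e) (r.drop 4) hw
  have hmem := ω.wordElt_mem hM (extra := [ω.cand a b e]) (by simpa using hg) (r.drop 4)
  unfold certB at hcert
  rw [h0, h1] at hcert
  generalize hk : r.getD 2 0 = kind at hcert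
  rcases kind with _ | _ | kind
  · simp only [Bool.and_eq_true, decide_eq_true_eq, beq_iff_eq] at hcert
    refine ⟨(r.getD 3 0 : ZMod 3), (Subgroup.eq_of_le_of_card_ge (ω.kSub_le hM ?_)
      (by rw [hcard, ω.card_kSub hF9])).symm⟩
    have : ω.wordElt [ω.cand a b e] (r.drop 4) = ω.outFun (r.getD 3 0 : ZMod 3) ω.five := matOf_injective (by
      rw [hmat, hcert.2, ω.mat_outFive, ZMod.val_natCast, Nat.mod_eq_of_lt hcert.1])
    rwa [this] at hmem
  · change (_ == swapC) = true at hcert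
    rw [beq_iff_eq] at hcert
    have e' : ω.wordElt [ω.cand a b e] (r.drop 4) = ω.swapElt := matOf_injective (by
      rw [hmat, hcert, ω.mat_swapElt])
    rw [e'] at hmem
    exact absurd (hint _ hmem ⟨0, _, trivial, rfl⟩) ω.swapElt_notMem
  · change (_ && _) = true at hcert
    simp only [Bool.and_eq_true, beq_iff_eq] at hcert
    have h11 := ω.orderOf_eleven hmat hcert.1 hcert.2
    have hdvd : 11 ∣ Nat.card K := by
      rw [← h11, ← Subgroup.orderOf_mk _ hmem]; exact orderOf_dvd_natCard _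
    rw [hcard] at hdvd
    norm_num at hdvd

/-- A `3.U4(3)` containing `P` is one of the three. -/
theorem Omega.classify_syl {K : Subgroup (Cfsg.SU 6 F 2)} (hP : ω.syl ≤ K)
    (hc : Nat.card (Subgroup.center K) = 3)
    (hq : Nonempty (K ⧸ Subgroup.center K ≃* Cfsg.PSU 4 F9 3)) : ∃ c, K = ω.kSub c := by
  classical
  haveI : Fact (Nat.Prime 3) := ⟨by norm_num⟩
  obtain ⟨hchar, ι, hι⟩ := exists_iota hF9
  haveI := hchar
  obtain ⟨φq⟩ := hq
  obtain ⟨e0⟩ := (ω.kSub_zero_facts hF9).2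
  have hcardK : Nat.card K = 9797760 := by
    rw [Subgroup.card_eq_card_quotient_mul_card_subgroup (Subgroup.center K), hc, Nat.card_congr φq.toEquiv,
      card_eq hι hF9]
  have hZP : Subgroup.center (Cfsg.SU 6 F 2) ≤ ω.syl := ω.center_le.trans ω.diag_le_syl
  have hZK : Subgroup.center (Cfsg.SU 6 F 2) ≤ K := hZP.trans hP
  have hcen : Subgroup.center K = (Subgroup.center (Cfsg.SU 6 F 2)).subgroupOf K := by
    refine (Subgroup.eq_of_le_of_card_ge (fun z hz => ?_) ?_).symm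
    · exact Subgroup.mem_center_iff.2 fun x => Subtype.ext (Subgroup.mem_center_iff.1 hz x.1)
    · rw [hc, Nat.card_congr (Subgroup.subgroupOfEquivOfLe hZK).toEquiv, ω.card_center]
  obtain ⟨eK⟩ := bar_iso hZK hcen
  let φ₁ : bar K ≃* bar (ω.kSub 0) := (eK.symm.trans φq).trans e0.symm
  -- make the Sylow subgroups correspond
  have hZ0 := ω.center_le_kSub (0 : ZMod 3)
  have hP0 : ω.syl ≤ ω.kSub 0 := ω.syl_le.trans (ω.monoAlt_le_kSub 0)
  have cP : Nat.card (bar ω.syl) = 729 := by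
    have := card_bar hZP; rw [ω.card_syl, ω.card_center] at this; omega
  have c0 : Nat.card (bar (ω.kSub 0)) = 3265920 := by rw [Nat.card_congr e0.toEquiv, card_eq hι hF9]
  have hfac : (Nat.card (bar (ω.kSub 0))).factorization 3 = 6 := by
    rw [c0, show (3265920 : ℕ) = 3 ^ 6 * 4480 by norm_num,
      Nat.factorization_mul (by norm_num) (by norm_num), Nat.Prime.factorization_pow (by norm_num)]
    simp [Nat.factorization_eq_zero_of_not_dvd (show ¬ 3 ∣ 4480 by norm_num)]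
  let S0 : Sylow 3 (bar (ω.kSub 0)) := Sylow.ofCard ((bar ω.syl).subgroupOf (bar (ω.kSub 0))) (by
    rw [Nat.card_congr (Subgroup.subgroupOfEquivOfLe (show bar ω.syl ≤ bar (ω.kSub 0) from Subgroup.map_mono hP0)).toEquiv, cP, hfac]; rfl)
  let S1 : Sylow 3 (bar (ω.kSub 0)) := Sylow.ofCard (((bar ω.syl).subgroupOf (bar K)).map φ₁.toMonoidHom) (by
    rw [Subgroup.card_map_of_injective (show Function.Injective φ₁.toMonoidHom from φ₁.injective),
      Nat.card_congr (Subgroup.subgroupOfEquivOfLe (show bar ω.syl ≤ bar K from Subgroup.map_mono hP)).toEquiv, cP, hfac]; rfl)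
  obtain ⟨k, hk⟩ := MulAction.exists_smul_eq (bar (ω.kSub 0)) S1 S0
  let φ : bar K ≃* bar (ω.kSub 0) := φ₁.trans (MulAut.conj k)
  have hφP : ∀ x : bar K, (φ x).1 ∈ bar ω.syl ↔ x.1 ∈ bar ω.syl := by
    intro x
    have h1 : φ x ∈ (bar ω.syl).subgroupOf (bar (ω.kSub 0)) ↔
        φ₁ x ∈ ((bar ω.syl).subgroupOf (bar K)).map φ₁.toMonoidHom := by
      show φ x ∈ (S0 : Subgroup _) ↔ φ₁ x ∈ (S1 : Subgroup _)
      rw [← hk, Sylow.coe_subgroup_smul]
      constructor
      · rintro ⟨y, hy, e⟩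
        have : y = φ₁ x := (MulAut.conj k).injective e
        exact this ▸ hy
      · intro h; exact ⟨_, h, rfl⟩
    rw [Subgroup.mem_subgroupOf] at h1
    rw [h1]
    exact ⟨fun ⟨y, hy, e⟩ => φ₁.injective e ▸ hy, fun h => ⟨x, h, rfl⟩⟩
  -- the diagonal groups correspond
  have hD0 : bar ω.diagSub ≤ bar (ω.kSub 0) := Subgroup.map_mono (ω.diag_le_syl.trans hP0)
  have hDK : bar ω.diagSub ≤ bar K := Subgroup.map_mono (ω.diag_le_syl.trans hP)
  let Xb : Subgroup (bar K) := ((bar ω.diagSub).subgroupOf (bar (ω.kSub 0))).comap φ.toMonoidHom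
  let X : Subgroup (Cfsg.SU 6 F 2) := (Xb.map (bar K).subtype).comap (QuotientGroup.mk' _)
  have hmemX : ∀ g, g ∈ X ↔ ∃ x : bar K, (φ x).1 ∈ bar ω.diagSub ∧ x.1 = QuotientGroup.mk g := fun g =>
    ⟨fun ⟨x, hx, e⟩ => ⟨x, hx, e⟩, fun ⟨x, hx, e⟩ => ⟨x, hx, e⟩⟩
  have hX : X = ω.diagSub := by
    refine ω.unique_diag (fun g hg => ?_) ?_ fun g hg g' hg' => ?_
    · obtain ⟨x, hx, e⟩ := (hmemX g).1 hg
      have : x.1 ∈ bar ω.syl := (hφP x).1 (Subgroup.map_mono ω.diag_le_syl hx)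
      exact mem_of_bar_mem hZP (e ▸ this)
    · have hZX : Subgroup.center (Cfsg.SU 6 F 2) ≤ X := fun z hz => (hmemX z).2
        ⟨1, by rw [map_one]; exact one_mem _, ((QuotientGroup.eq_one_iff z).2 hz).symm⟩
      have h1 := card_bar hZX
      rw [show bar X = Xb.map (bar K).subtype from
          Subgroup.map_comap_eq_self_of_surjective (QuotientGroup.mk'_surjective _) _,
        Subgroup.card_map_of_injective (bar K).subtype_injective, ω.card_center] at h1
      have h2 : Nat.card Xb = Nat.card (bar ω.diagSub) := by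
        rw [← Nat.card_congr (Subgroup.subgroupOfEquivOfLe hD0).toEquiv]
        exact Nat.card_congr (φ.toEquiv.subtypeEquiv fun x => Iff.rfl)
      have h3 := card_bar ω.center_le
      rw [ω.card_diagSub, ω.card_center] at h3
      omega
    · obtain ⟨x, hx, e⟩ := (hmemX g).1 hg
      obtain ⟨x', hx', e'⟩ := (hmemX g').1 hg'
      obtain ⟨d, hd, ed⟩ := hx
      obtain ⟨d', hd', ed'⟩ := hx'
      have hcomm : x * x' = x' * x := φ.injective (Subtype.ext (by
        rw [map_mul, map_mul, Subgroup.coe_mul, Subgroup.coe_mul, ← ed, ← ed', ← map_mul, ← map_mul,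
          ω.diag_commute hd hd']))
      have h := congrArg Subtype.val hcomm
      rw [Subgroup.coe_mul, Subgroup.coe_mul, e, e'] at h
      rw [← QuotientGroup.eq_one_iff]
      simp only [QuotientGroup.mk_mul, QuotientGroup.mk_inv]
      rw [h]; group
  have hφD : ∀ x : bar K, (φ x).1 ∈ bar ω.diagSub ↔ x.1 ∈ bar ω.diagSub := by
    intro x
    constructor
    · intro h
      obtain ⟨g, hg⟩ := QuotientGroup.mk_surjective x.1
      exact ⟨g, hX ▸ (hmemX g).2 ⟨x, h, hg.symm⟩, hg⟩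
    · rintro ⟨g, hg, e⟩
      obtain ⟨y, hy, e'⟩ := (hmemX g).1 (hX.symm ▸ hg)
      rwa [show x = y from Subtype.ext (e.symm.trans e'.symm)]
  -- the monomial parts correspond
  have hnorm : ∀ (H : Subgroup (Cfsg.SU 6 F 2)), ω.diagSub ≤ H → ∀ (g : Cfsg.SU 6 F 2) (hg : g ∈ H),
      g ∈ ω.monoFull ↔ ∀ d : bar H, d.1 ∈ bar ω.diagSub →
        ((⟨_, Subgroup.mem_map_of_mem _ hg⟩ : bar H) * d * (⟨_, Subgroup.mem_map_of_mem _ hg⟩ : bar H)⁻¹).1 ∈
          bar ω.diagSub := by
    intro H hH g hg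
    constructor
    · rintro hm ⟨_, hd0⟩ ⟨d, hd, rfl⟩
      exact ⟨g * d * g⁻¹, ω.mono_normalises_diag hm hd, by simp⟩
    · intro h
      refine ω.mem_monoFull_of_normalises fun d hd => ?_
      have h' := h ⟨_, Subgroup.mem_map_of_mem _ (hH hd)⟩ (Subgroup.mem_map_of_mem _ hd)
      exact mem_of_bar_mem ω.center_le (by simpa using h')
  have hmono : ∀ x : bar K, x.1 ∈ bar (K ⊓ ω.monoFull) ↔ (φ x).1 ∈ bar (ω.kSub 0 ⊓ ω.monoFull) := by
    intro x
    obtain ⟨g, hg, eg⟩ := x.2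
    obtain ⟨g', hg', eg'⟩ := (φ x).2
    have ex : x = ⟨_, Subgroup.mem_map_of_mem _ hg⟩ := Subtype.ext eg.symm
    have ex' : φ x = ⟨_, Subgroup.mem_map_of_mem _ hg'⟩ := Subtype.ext eg'.symm
    have hA : x.1 ∈ bar (K ⊓ ω.monoFull) ↔ g ∈ ω.monoFull := by
      rw [← eg]
      exact ⟨fun h => (mem_of_bar_mem (le_inf hZK (ω.center_le.trans (ω.monoSub_le le_top))) h).2,
        fun h => Subgroup.mem_map_of_mem _ ⟨hg, h⟩⟩
    have hB : (φ x).1 ∈ bar (ω.kSub 0 ⊓ ω.monoFull) ↔ g' ∈ ω.monoFull := by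
      rw [← eg']
      exact ⟨fun h => (mem_of_bar_mem (le_inf hZ0 (ω.center_le.trans (ω.monoSub_le le_top))) h).2,
        fun h => Subgroup.mem_map_of_mem _ ⟨hg', h⟩⟩
    rw [hA, hB, hnorm K (ω.diag_le_syl.trans hP) g hg, hnorm _ (ω.diag_le_syl.trans hP0) g' hg', ← ex, ← ex']
    constructor
    · intro h d hd
      obtain ⟨y, rfl⟩ := φ.surjective d
      rw [← map_inv, ← map_mul, ← map_mul]
      exact (hφD _).2 (h y ((hφD y).1 hd))
    · intro h d hd
      have h' := h (φ d) ((hφD d).2 hd)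
      rw [← map_inv, ← map_mul, ← map_mul] at h'
      exact (hφD _).1 h'
  have hM0 : ω.kSub 0 ⊓ ω.monoFull = ω.monoAlt :=
    le_antisymm (fun g hg => ω.kSub_inf_mono hF9 0 hg.1 hg.2)
      (le_inf (ω.monoAlt_le_kSub 0) (ω.monoSub_le le_top))
  rw [hM0] at hmono
  have hZX : Subgroup.center (Cfsg.SU 6 F 2) ≤ K ⊓ ω.monoFull :=
    le_inf hZK (ω.center_le.trans (ω.monoSub_le le_top))
  have hZA : Subgroup.center (Cfsg.SU 6 F 2) ≤ ω.monoAlt := ω.center_le.trans (ω.monoSub_le bot_le)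
  have hcX : Nat.card ↥(K ⊓ ω.monoFull) = 87480 := by
    have eq1 : ((bar (K ⊓ ω.monoFull)).subgroupOf (bar K)).map φ.toMonoidHom =
        (bar ω.monoAlt).subgroupOf (bar (ω.kSub 0)) := by
      ext y
      obtain ⟨x, rfl⟩ := φ.surjective y
      rw [Subgroup.mem_subgroupOf, ← hmono x, Subgroup.mem_map]
      exact ⟨fun ⟨x', hx', e⟩ => φ.injective e ▸ hx', fun h => ⟨x, h, rfl⟩⟩
    have h1 := congrArg (fun S : Subgroup (bar (ω.kSub 0)) => Nat.card S) eq1
    rw [Subgroup.card_map_of_injective (show Function.Injective φ.toMonoidHom from φ.injective),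
      Nat.card_congr (Subgroup.subgroupOfEquivOfLe (show bar (K ⊓ ω.monoFull) ≤ bar K from Subgroup.map_mono inf_le_left)).toEquiv,
      Nat.card_congr (Subgroup.subgroupOfEquivOfLe
        (show bar ω.monoAlt ≤ bar (ω.kSub 0) from Subgroup.map_mono (ω.monoAlt_le_kSub 0))).toEquiv] at h1
    have h2 := card_bar hZX
    have h3 := card_bar hZA
    rw [ω.card_center] at h2 h3
    rw [ω.card_monoAlt] at h3
    omega
  have hXM : K ⊓ ω.monoFull = ω.monoAlt := by
    have hidx : ((K ⊓ ω.monoFull).subgroupOf ω.monoFull).index = 2 := by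
      have := Subgroup.card_mul_index ((K ⊓ ω.monoFull).subgroupOf ω.monoFull)
      rw [Nat.card_congr (Subgroup.subgroupOfEquivOfLe inf_le_right).toEquiv, hcX, ω.card_monoFull] at this
      omega
    have hle : ω.monoAlt ≤ K ⊓ ω.monoFull := by
      refine ω.monoAlt_le_of (le_inf (ω.diag_le_syl.trans hP) (ω.monoSub_le bot_le)) fun σ hσ => ?_
      let g : ω.monoFull := ⟨ω.mono 0 (by simp) (σ * σ), ω.mono_mem _ _ trivial⟩
      have h := Subgroup.mul_self_mem_of_index_two hidx g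
      rw [Subgroup.mem_subgroupOf] at h
      show ω.mono 0 (by simp) σ ∈ K ⊓ ω.monoFull
      have e : ω.mono 0 (by simp) σ = (g : Cfsg.SU 6 F 2) * g := matOf_injective (by
        have h3 : σ * σ * (σ * σ) = σ := by
          have h3' := pow_orderOf_eq_one σ
          rw [hσ.orderOf, pow_succ, pow_two] at h3'
          rw [← mul_assoc, h3', one_mul]
        rw [matOf_mul, ω.mat_mono, ω.mat_mono, ω.monoMat_mul, h3]
        congr 1
        all_goals (funext i; simp))
      rw [e]; exact h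
    exact (Subgroup.eq_of_le_of_card_ge hle (by rw [hcX, ω.card_monoAlt])).symm
  have hint : ∀ g ∈ K, g ∈ ω.monoFull → g ∈ ω.monoAlt := fun g h1 h2 => hXM ▸ ⟨h1, h2⟩
  have hMK : ω.monoAlt ≤ K := hXM ▸ inf_le_left
  -- an element outside normalising the centre of `P`
  let q0 : bar (ω.kSub 0) := ⟨_, Subgroup.mem_map_of_mem _ ω.second_mem⟩
  let zE : Cfsg.SU 6 F 2 := ω.mono zExp Omega.zExp_sum 1
  have hzB : BlockConst zExp := by decide
  have hzP : zE ∈ ω.syl := ω.mono_mem _ _ (one_mem _)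
  let z0 : bar (ω.kSub 0) := ⟨_, Subgroup.mem_map_of_mem _ (hP0 hzP)⟩
  have hqz : q0 * z0 * q0⁻¹ = z0 := by
    have : ω.second * zE = zE * ω.second := matOf_injective (by
      rw [matOf_mul, matOf_mul, ω.mat_second, ω.mat_mono, ← ω.mat_monoC, ← ω.mat_mul, ← ω.mat_mul, second_conj.1])
    rw [mul_inv_eq_iff_eq_mul]
    refine Subtype.ext ?_
    show (QuotientGroup.mk' _ ω.second) * QuotientGroup.mk' _ zE = QuotientGroup.mk' _ zE * QuotientGroup.mk' _ ω.second
    rw [← map_mul, ← map_mul, this]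
  obtain ⟨h, hhK, eh⟩ := (φ.symm q0).2
  obtain ⟨x, hxK, ex⟩ := (φ.symm z0).2
  have hxP : x ∈ ω.syl := mem_of_bar_mem hZP (by
    have h1 := (hφP (φ.symm z0)).1 (by rw [φ.apply_symm_apply]; exact Subgroup.mem_map_of_mem _ hzP)
    rw [← ex] at h1
    exact h1)
  have hcentral : ∀ y ∈ ω.syl, x * y * x⁻¹ * y⁻¹ ∈ Subgroup.center (Cfsg.SU 6 F 2) := by
    intro y hy
    let yb : bar K := ⟨_, Subgroup.mem_map_of_mem _ (hP hy)⟩
    obtain ⟨y', hy', ey'⟩ := (hφP yb).2 (Subgroup.mem_map_of_mem _ hy)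
    have hcomm : φ.symm z0 * yb = yb * φ.symm z0 := φ.injective (Subtype.ext (by
      rw [map_mul, map_mul, φ.apply_symm_apply, Subgroup.coe_mul, Subgroup.coe_mul, ← ey']
      show QuotientGroup.mk' _ zE * QuotientGroup.mk' _ y' = QuotientGroup.mk' _ y' * QuotientGroup.mk' _ zE
      rw [← map_mul, ← map_mul, ω.block_commute hzB (ω.mat_mono _ _ _) hy']))
    have h' := congrArg Subtype.val hcomm
    rw [Subgroup.coe_mul, Subgroup.coe_mul, ← ex] at h'
    rw [← QuotientGroup.eq_one_iff]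
    simp only [QuotientGroup.mk_mul, QuotientGroup.mk_inv]
    change (QuotientGroup.mk' _ x) * QuotientGroup.mk' _ y = QuotientGroup.mk' _ y * QuotientGroup.mk' _ x at h'
    simp only [QuotientGroup.mk'_apply] at h'
    rw [h']; group
  obtain ⟨u, hu, hxu⟩ := ω.central_syl hxP hcentral
  have hconj : (QuotientGroup.mk (h * x * h⁻¹) : _ ⧸ Subgroup.center (Cfsg.SU 6 F 2)) = QuotientGroup.mk x := by
    have h' := congrArg (fun t => (φ.symm t).1) hqz
    simp only [map_mul, map_inv, Subgroup.coe_mul, Subgroup.coe_inv, ← eh, ← ex] at h'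
    simpa using h'
  obtain ⟨k', hk'⟩ := ω.center_const (QuotientGroup.eq.1 hconj)
  have hhx : h * x = (x * ((h * x * h⁻¹)⁻¹ * x)⁻¹) * h := by group
  set u' : Fin 6 → ZMod 3 := fun i => u i - k' with hu'
  have hmu' : matOf (x * ((h * x * h⁻¹)⁻¹ * x)⁻¹) = ω.monoMat u' 1 := by
    have hs : ∑ i : Fin 6, u' i = 0 := by
      simp only [hu', Finset.sum_sub_distrib, ω.sum_eq_zero hxu, Finset.sum_const, Finset.card_univ,
        Fintype.card_fin, zero_sub]
      rw [show (6 : ℕ) • k' = ((6 : ℕ) : ZMod 3) * k' by simp, show ((6 : ℕ) : ZMod 3) = 0 from rfl, zero_mul,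
        neg_zero]
    have : x * ((h * x * h⁻¹)⁻¹ * x)⁻¹ = ω.mono u' hs 1 := by
      rw [mul_inv_eq_iff_eq_mul]
      refine matOf_injective ?_
      rw [matOf_mul, ω.mat_mono, hk', hxu, ω.monoMat_mul, mul_one]
      congr 1
      funext i
      simp [hu']
    rw [this]; rfl
  have hub : u 0 ≠ u 3 := by
    intro e
    have hxZ : x ∈ Subgroup.center (Cfsg.SU 6 F 2) := Subgroup.mem_center_iff.2 fun y => matOf_injective (by
      have : ω.monoMat u 1 = ω.cube (u 0) • 1 := by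
        ext i j
        by_cases hij : i = j
        · subst hij
          have hi : u i = u 0 := by rw [blockConst_apply u hu i]; split; rfl; exact e.symm
          simp [Omega.monoMat, hi]
        · simp [Omega.monoMat, hij, Ne.symm hij]
      rw [matOf_mul, matOf_mul, hxu, this, mul_smul_comm, smul_mul_assoc, mul_one, one_mul])
    have h1 : φ.symm z0 = 1 := Subtype.ext (ex.symm.trans ((QuotientGroup.eq_one_iff x).2 hxZ))
    rw [MulEquiv.map_eq_one_iff] at h1
    have h2 := (QuotientGroup.eq_one_iff zE).1 (congrArg Subtype.val h1)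
    obtain ⟨k, hk⟩ := ω.center_const h2
    have := congrFun (ω.monoMat_inj hk).1
    exact absurd ((this 0).trans (this 3).symm) (by decide)
  have hhM : h ∉ ω.monoFull := by
    intro hh
    have h1 : (φ.symm q0).1 ∈ bar (K ⊓ ω.monoFull) := eh ▸ Subgroup.mem_map_of_mem _ ⟨hhK, hh⟩
    rw [hmono, φ.apply_symm_apply] at h1
    exact ω.second_not_mono (ω.monoSub_le le_top (mem_of_bar_mem hZA h1))
  have hlink : ∀ i j, matOf h i j ≠ 0 → u j = u' i := fun i j => ω.entry_link hxu hmu' hhx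
  have hblk := blockConst_apply u hu
  have hcol : ∀ j : Fin 6, ∃ i, matOf h i j ≠ 0 := by
    intro j
    by_contra hc'
    push Not at hc'
    have h0 := Matrix.det_eq_zero_of_column_eq_zero (A := matOf h) j hc'
    rw [(h : Matrix.SpecialLinearGroup (Fin 6) F).2] at h0
    exact one_ne_zero h0
  have hval : ∀ j : Fin 6, u j = u 0 - k' ∨ u j = u 3 - k' := by
    intro j
    obtain ⟨i, hi⟩ := hcol j
    rw [hlink i j hi, hu']
    rcases Decidable.em (i.val < 3) with hi3 | hi3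
    · left; show u i - k' = _; rw [hblk i, if_pos hi3]
    · right; show u i - k' = _; rw [hblk i, if_neg hi3]
  -- make `h` preserve the two blocks
  obtain ⟨h₂, hh₂K, hh₂M, hz₂⟩ : ∃ h₂ ∈ K, h₂ ∉ ω.monoFull ∧
      ∀ i j : Fin 6, decide (i.val < 3) ≠ decide (j.val < 3) → matOf h₂ i j = 0 := by
    rcases block_cases _ _ _ _ hub (hval 0) (hval 3) with ⟨e1, e2⟩ | ⟨e1, e2⟩
    · refine ⟨h, hhK, hhM, fun i j hij => ?_⟩
      by_contra hne
      have hl : u j = u i - k' := hlink i j hne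
      rw [hblk j, hblk i] at hl
      rcases Decidable.em (i.val < 3) with hi3 | hi3 <;> rcases Decidable.em (j.val < 3) with hj3 | hj3
      · exact hij (by rw [decide_eq_true hi3, decide_eq_true hj3])
      · rw [if_neg hj3, if_pos hi3] at hl; exact hub (e1.trans hl.symm)
      · rw [if_pos hj3, if_neg hi3] at hl; exact hub (hl.trans e2.symm)
      · exact hij (by rw [decide_eq_false hi3, decide_eq_false hj3])
    · let m0 : Cfsg.SU 6 F 2 := ω.mono 0 (by simp) flipPerm
      have hm0 : m0 ∈ ω.monoAlt := ω.mono_mem _ _ flipPerm_facts.1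
      refine ⟨h * m0, mul_mem hhK (hMK hm0), fun e => hhM ?_, fun i j hij => ?_⟩
      · simpa using mul_mem e (inv_mem (ω.monoSub_le le_top hm0 : m0 ∈ ω.monoFull))
      · rw [matOf_mul, Matrix.mul_apply, Finset.sum_eq_single (flipPerm j)]
        · by_contra hne
          have hne' : matOf h i (flipPerm j) ≠ 0 := fun e => hne (by rw [e, zero_mul])
          have hl : u (flipPerm j) = u i - k' := hlink i _ hne'
          rw [hblk (flipPerm j), hblk i] at hl
          have hf := flipPerm_facts.2 j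
          rcases Decidable.em (i.val < 3) with hi3 | hi3 <;> rcases Decidable.em (j.val < 3) with hj3 | hj3
          · exact hij (by rw [decide_eq_true hi3, decide_eq_true hj3])
          · rw [if_pos (hf.2 hj3), if_pos hi3] at hl; exact hub (hl.trans e2.symm)
          · rw [if_neg fun hp => hf.1 hp hj3, if_neg hi3] at hl; exact hub (e1.trans hl.symm)
          · exact hij (by rw [decide_eq_false hi3, decide_eq_false hj3])
        · intro b _ hb; simp [m0, ω.mat_mono, Omega.monoMat, Ne.symm hb]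
        · simp
  obtain ⟨a, b, hn⟩ := ω.block_decomp hz₂
  by_cases hnA : (ω.blockElt a b)⁻¹ * h₂ ∈ ω.monoAlt
  · refine ω.cand_cases hF9 hcardK hMK hint a b false (fun ⟨ha, hb, _⟩ => hh₂M ?_) ?_
    · have h00 : ω.blockElt 0 0 = 1 := matOf_injective (by
        rw [ω.mat_blockElt, (by decide +kernel : blocksC.getD (4 * (0 : Fin 4).val + (0 : Fin 4).val) [] = oneM),
          ω.mat_one, matOf_one])
      rw [ha, hb, h00, inv_one, one_mul] at hn
      exact hn
    · have : ω.cand a b false = h₂ * ((ω.blockElt a b)⁻¹ * h₂)⁻¹ := by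
        rw [Omega.cand, if_neg (by simp)]; group
      rw [this]; exact mul_mem hh₂K (inv_mem (hMK hnA))
  · refine ω.cand_cases hF9 hcardK hMK hint a b true (fun h => Bool.noConfusion h.2.2) ?_
    have : ω.cand a b true = h₂ * (ω.swapElt * ((ω.blockElt a b)⁻¹ * h₂))⁻¹ := by
      rw [Omega.cand, if_pos rfl, _root_.mul_inv_rev, _root_.mul_inv_rev, inv_inv,
        inv_eq_of_mul_eq_one_right ω.swapElt_sq, ← mul_assoc, ← mul_assoc, mul_inv_cancel, one_mul]
      rfl
    rw [this]; exact mul_mem hh₂K (inv_mem (hMK (ω.swapElt_mul hn hnA)))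

theorem Omega.exists_conj {K : Subgroup (Cfsg.SU 6 F 2)} (hc : Nat.card (Subgroup.center K) = 3)
    (hq : Nonempty (K ⧸ Subgroup.center K ≃* Cfsg.PSU 4 F9 3)) :
    ∃ g c, K.map (MulAut.conj g).toMonoidHom = ω.kSub c := by
  obtain ⟨hchar, ι, hι⟩ := exists_iota hF9
  haveI := hchar
  obtain ⟨φq⟩ := hq
  obtain ⟨g, hg⟩ := ω.exists_conj_syl (K := K) (by
    rw [Subgroup.card_eq_card_quotient_mul_card_subgroup (Subgroup.center K), hc, Nat.card_congr φq.toEquiv,
      card_eq hι hF9]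
    norm_num)
  obtain ⟨h1, ⟨h2⟩⟩ := quot_transfer (K.equivMapOfInjective (MulAut.conj g).toMonoidHom (MulAut.conj g).injective)
  obtain ⟨c, hc'⟩ := ω.classify_syl hF9 hg (h1.trans hc) ⟨h2.symm.trans φq⟩
  exact ⟨g, c, hc'⟩

theorem Omega.not_conj {c d : ZMod 3} (hcd : c ≠ d) (g : Cfsg.SU 6 F 2) :
    (ω.kSub c).map (MulAut.conj g).toMonoidHom ≠ ω.kSub d := by
  intro h
  haveI : Fact (Nat.Prime 3) := ⟨by norm_num⟩
  have hPd : ω.syl ≤ ω.kSub d := ω.syl_le.trans (ω.monoAlt_le_kSub d)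
  have hPc : ω.syl.map (MulAut.conj g).toMonoidHom ≤ ω.kSub d :=
    h ▸ Subgroup.map_mono (ω.syl_le.trans (ω.monoAlt_le_kSub c))
  have hfac : (Nat.card (ω.kSub d)).factorization 3 = 7 := by
    rw [ω.card_kSub hF9, show (9797760 : ℕ) = 3 ^ 7 * 4480 by norm_num,
      Nat.factorization_mul (by norm_num) (by norm_num), Nat.Prime.factorization_pow (by norm_num)]
    simp [Nat.factorization_eq_zero_of_not_dvd (show ¬ 3 ∣ 4480 by norm_num)]
  let S0 : Sylow 3 (ω.kSub d) := Sylow.ofCard (ω.syl.subgroupOf (ω.kSub d)) (by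
    rw [Nat.card_congr (Subgroup.subgroupOfEquivOfLe hPd).toEquiv, ω.card_syl, hfac]; rfl)
  let S1 : Sylow 3 (ω.kSub d) := Sylow.ofCard ((ω.syl.map (MulAut.conj g).toMonoidHom).subgroupOf (ω.kSub d)) (by
    rw [Nat.card_congr (Subgroup.subgroupOfEquivOfLe hPc).toEquiv,
      Subgroup.card_map_of_injective (show Function.Injective (MulAut.conj g).toMonoidHom from (MulAut.conj g).injective),
      ω.card_syl, hfac]; rfl)
  obtain ⟨k, hk⟩ := MulAction.exists_smul_eq (ω.kSub d) S1 S0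
  set m : Cfsg.SU 6 F 2 := k.1 * g with hm
  have hmap : ∀ x ∈ ω.syl, m * x * m⁻¹ ∈ ω.syl := by
    intro x hx
    have h1 : (⟨g * x * g⁻¹, hPc ⟨x, hx, rfl⟩⟩ : ω.kSub d) ∈ (S1 : Subgroup _) := ⟨x, hx, rfl⟩
    have h2 : k * ⟨g * x * g⁻¹, hPc ⟨x, hx, rfl⟩⟩ * k⁻¹ ∈ (S0 : Subgroup _) := by
      rw [← hk, Sylow.coe_subgroup_smul]; exact ⟨_, h1, rfl⟩
    have h3 : (k.1 * (g * x * g⁻¹) * k.1⁻¹ : Cfsg.SU 6 F 2) ∈ ω.syl := h2
    have : m * x * m⁻¹ = k.1 * (g * x * g⁻¹) * k.1⁻¹ := by rw [hm]; group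
    rw [this]; exact h3
  have hX : ω.diagSub.map (MulAut.conj m).toMonoidHom = ω.diagSub := by
    refine ω.unique_diag ?_ ?_ ?_
    · rintro _ ⟨x, hx, rfl⟩; exact hmap x (ω.diag_le_syl hx)
    · rw [Subgroup.card_map_of_injective (show Function.Injective (MulAut.conj m).toMonoidHom from (MulAut.conj m).injective),
        ω.card_diagSub]
    · rintro _ ⟨x, hx, rfl⟩ _ ⟨y, hy, rfl⟩
      have h1 : (MulAut.conj m).toMonoidHom x * (MulAut.conj m).toMonoidHom y =
          (MulAut.conj m).toMonoidHom y * (MulAut.conj m).toMonoidHom x := by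
        rw [← map_mul, ← map_mul, ω.diag_commute hx hy]
      rw [h1, show (MulAut.conj m).toMonoidHom y * (MulAut.conj m).toMonoidHom x * ((MulAut.conj m).toMonoidHom x)⁻¹ *
        ((MulAut.conj m).toMonoidHom y)⁻¹ = 1 by group]
      exact one_mem _
  have hmM : m ∈ ω.monoFull := ω.mem_monoFull_of_normalises fun x hx => hX ▸ ⟨x, hx, rfl⟩
  have hMd : ∀ n ∈ ω.monoFull, ∀ y ∈ ω.kSub c, n * y * n⁻¹ ∈ ω.kSub c := by
    have ht : ∀ y ∈ ω.kSub c, ω.swapElt * y * ω.swapElt⁻¹ ∈ ω.kSub c := by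
      intro y hy
      refine (ω.kSub_le (c := c) (X := (ω.kSub c).comap (MulAut.conj ω.swapElt).toMonoidHom) ?_ ?_) hy
      · intro x hx
        refine ω.monoAlt_le_kSub c ?_
        obtain ⟨v, π, hπ, hv⟩ := hx
        refine ⟨fun i => (0 : Fin 6 → ZMod 3) i + v ((Equiv.swap 0 1 : Equiv.Perm (Fin 6))⁻¹ i) +
          (0 : Fin 6 → ZMod 3) ((Equiv.swap 0 1 * π : Equiv.Perm (Fin 6))⁻¹ i), Equiv.swap 0 1 * π * Equiv.swap 0 1, ?_, ?_⟩
        · rw [Equiv.Perm.mem_alternatingGroup] at hπ ⊢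
          simp [hπ]
        · show matOf (ω.swapElt * x * ω.swapElt⁻¹) = _
          rw [inv_eq_of_mul_eq_one_right ω.swapElt_sq, matOf_mul, matOf_mul, hv, Omega.swapElt, ω.mat_mono,
            ω.monoMat_mul, ω.monoMat_mul]
      · show ω.swapElt * ω.outFun c ω.five * ω.swapElt⁻¹ ∈ ω.kSub c
        have hn := List.all_eq_true.1 norm_ok c.val (List.mem_range.2 c.val_lt)
        rw [beq_iff_eq] at hn
        have hw : ∀ k ∈ normC.getD c.val [], k < 10 :=
          (by decide +kernel : ∀ i < 3, ∀ k ∈ normC.getD i [], k < 10) _ c.val_lt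
        have e : ω.swapElt * ω.outFun c ω.five * ω.swapElt⁻¹ =
            ω.wordElt [ω.outFun c ω.five] (normC.getD c.val []) := matOf_injective (by
          rw [ω.mat_word_one (ω.mat_outFive c) _ hw, hn, inv_eq_of_mul_eq_one_right ω.swapElt_sq, matOf_mul,
            matOf_mul, ω.mat_swapElt, ω.mat_outFive, ω.mat_mul, ω.mat_mul])
        rw [e]
        exact ω.wordElt_mem (ω.monoAlt_le_kSub c) (by simpa using ω.five_mem c) _
    intro n hn y hy
    by_cases hn' : n ∈ ω.monoAlt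
    · exact mul_mem (mul_mem (ω.monoAlt_le_kSub c hn') hy) (inv_mem (ω.monoAlt_le_kSub c hn'))
    · have h1 := ω.monoAlt_le_kSub c (ω.swapElt_mul hn hn')
      have h2 := ht _ (mul_mem (mul_mem h1 hy) (inv_mem h1))
      have e : n * y * n⁻¹ = ω.swapElt * (ω.swapElt * n * y * (ω.swapElt * n)⁻¹) * ω.swapElt⁻¹ := by
        rw [inv_eq_of_mul_eq_one_right ω.swapElt_sq, _root_.mul_inv_rev, inv_eq_of_mul_eq_one_right ω.swapElt_sq]
        simp only [← mul_assoc, ω.swapElt_sq, one_mul]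
        rw [mul_assoc (n * y * n⁻¹), ω.swapElt_sq, mul_one]
      rw [e]; exact h2
  have heq : ω.kSub c = ω.kSub d := by
    refine Subgroup.eq_of_le_of_card_ge (fun y hy => ?_) (by rw [ω.card_kSub hF9, ω.card_kSub hF9])
    have h1 : m⁻¹ * y * m ∈ ω.kSub c := by simpa using hMd m⁻¹ (inv_mem hmM) y hy
    have h2 : g * (m⁻¹ * y * m) * g⁻¹ ∈ ω.kSub d := h ▸ ⟨_, h1, rfl⟩
    have e : g * (m⁻¹ * y * m) * g⁻¹ = k.1⁻¹ * y * k.1 := by rw [hm]; group
    rw [e] at h2
    have := mul_mem (mul_mem k.2 h2) (inv_mem k.2)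
    simpa [mul_assoc] using this
  obtain ⟨p, hp, hp'⟩ : ∃ p ∈ [(0, 1, 0), (0, 2, 1), (1, 2, 2)],
      (c.val = (p : ℕ × ℕ × ℕ).1 ∧ d.val = p.2.1) ∨ (d.val = p.1 ∧ c.val = p.2.1) :=
    (by decide +kernel : ∀ c d : ZMod 3, c ≠ d → ∃ p ∈ [((0 : ℕ), (1 : ℕ), (0 : ℕ)), (0, 2, 1), (1, 2, 2)],
      (c.val = p.1 ∧ d.val = p.2.1) ∨ (d.val = p.1 ∧ c.val = p.2.1)) c d hcd
  have hs := List.all_eq_true.1 split_ok p hp
  simp only [Bool.and_eq_true, beq_iff_eq] at hs
  have hwl : ∀ k ∈ splitC.getD p.2.2 [], k < 11 :=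
    (by decide +kernel : ∀ p ∈ [((0 : ℕ), (1 : ℕ), (0 : ℕ)), (0, 2, 1), (1, 2, 2)],
      ∀ k ∈ splitC.getD p.2.2 [], k < 11) p hp
  let x1 : ZMod 3 := (p.1 : ZMod 3)
  let x2 : ZMod 3 := (p.2.1 : ZMod 3)
  have hlt : p.1 < 3 ∧ p.2.1 < 3 :=
    (by decide +kernel : ∀ p ∈ [((0 : ℕ), (1 : ℕ), (0 : ℕ)), (0, 2, 1), (1, 2, 2)], p.1 < 3 ∧ p.2.1 < 3) p hp
  have hx1 : matOf (ω.outFun x1 ω.five) = ω.mat (fiveC.getD p.1 []) := by
    rw [ω.mat_outFive, ZMod.val_natCast, Nat.mod_eq_of_lt hlt.1]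
  have hx2 : matOf (ω.outFun x2 ω.five) = ω.mat (fiveC.getD p.2.1 []) := by
    rw [ω.mat_outFive, ZMod.val_natCast, Nat.mod_eq_of_lt hlt.2]
  have hmat := ω.mat_wordElt (extra := [ω.outFun x1 ω.five, ω.outFun x2 ω.five])
    (extraC := [fiveC.getD p.1 [], fiveC.getD p.2.1 []]) (fun i => by
      rcases i with _ | _ | i
      · exact Or.inl hx1
      · exact Or.inl hx2
      · exact Or.inr (by simp)) (splitC.getD p.2.2 []) (by simpa using hwl)
  have hmem : ω.wordElt [ω.outFun x1 ω.five, ω.outFun x2 ω.five] (splitC.getD p.2.2 []) ∈ ω.kSub d := by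
    refine ω.wordElt_mem (ω.monoAlt_le_kSub d) ?_ _
    have hcd' : ∀ y : ZMod 3, y = c ∨ y = d → ω.outFun y ω.five ∈ ω.kSub d := by
      rintro y (rfl | rfl)
      · exact heq ▸ ω.five_mem y
      · exact ω.five_mem y
    have e1 : ∀ y : ZMod 3, ((y.val : ℕ) : ZMod 3) = y := ZMod.natCast_rightInverse
    intro y hy
    simp only [List.mem_cons, List.not_mem_nil, or_false] at hy
    rcases hy with rfl | rfl <;> refine hcd' _ ?_
    · rcases hp' with ⟨a, -⟩ | ⟨a, -⟩
      · left; show (p.1 : ZMod 3) = c; rw [← a]; exact e1 c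
      · right; show (p.1 : ZMod 3) = d; rw [← a]; exact e1 d
    · rcases hp' with ⟨-, a⟩ | ⟨-, a⟩
      · right; show (p.2.1 : ZMod 3) = d; rw [← a]; exact e1 d
      · left; show (p.2.1 : ZMod 3) = c; rw [← a]; exact e1 c
  have h11 := ω.orderOf_eleven hmat hs.1 hs.2
  have hdvd : 11 ∣ Nat.card (ω.kSub d) := by
    rw [← h11, ← Subgroup.orderOf_mk _ hmem]; exact orderOf_dvd_natCard _
  rw [ω.card_kSub hF9] at hdvd
  norm_num at hdvd

end CfsgLib.SixTwo
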