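import Cfsg.Agent.SixTwo.Field

/-!
Certificates for the subgroups `3.U4(3)` of `SU (6, 2)`.
-/

set_option autoImplicit false

namespace CfsgLib.SixTwo

/-- Generators of the monomial subgroup, then one element of order five. -/
def gensC : List (List ℕ) := [
   [2, 0, 0, 0, 0, 0, 0, 3, 0, 0, 0, 0, 0, 0, 1, 0, 0, 0, 0, 0, 0, 1, 0, 0, 0, 0, 0, 0, 1, 0, 0, 0, 0, 0, 0, 1],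
   [1, 0, 0, 0, 0, 0, 0, 2, 0, 0, 0, 0, 0, 0, 3, 0, 0, 0, 0, 0, 0, 1, 0, 0, 0, 0, 0, 0, 1, 0, 0, 0, 0, 0, 0, 1],
   [1, 0, 0, 0, 0, 0, 0, 1, 0, 0, 0, 0, 0, 0, 2, 0, 0, 0, 0, 0, 0, 3, 0, 0, 0, 0, 0, 0, 1, 0, 0, 0, 0, 0, 0, 1],
   [1, 0, 0, 0, 0, 0, 0, 1, 0, 0, 0, 0, 0, 0, 1, 0, 0, 0, 0, 0, 0, 2, 0, 0, 0, 0, 0, 0, 3, 0, 0, 0, 0, 0, 0, 1],
   [1, 0, 0, 0, 0, 0, 0, 1, 0, 0, 0, 0, 0, 0, 1, 0, 0, 0, 0, 0, 0, 1, 0, 0, 0, 0, 0, 0, 2, 0, 0, 0, 0, 0, 0, 3],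
   [0, 0, 1, 0, 0, 0, 1, 0, 0, 0, 0, 0, 0, 1, 0, 0, 0, 0, 0, 0, 0, 1, 0, 0, 0, 0, 0, 0, 1, 0, 0, 0, 0, 0, 0, 1],
   [1, 0, 0, 0, 0, 0, 0, 0, 0, 1, 0, 0, 0, 1, 0, 0, 0, 0, 0, 0, 1, 0, 0, 0, 0, 0, 0, 0, 1, 0, 0, 0, 0, 0, 0, 1],
   [1, 0, 0, 0, 0, 0, 0, 1, 0, 0, 0, 0, 0, 0, 0, 0, 1, 0, 0, 0, 1, 0, 0, 0, 0, 0, 0, 1, 0, 0, 0, 0, 0, 0, 0, 1],
   [1, 0, 0, 0, 0, 0, 0, 1, 0, 0, 0, 0, 0, 0, 1, 0, 0, 0, 0, 0, 0, 0, 0, 1, 0, 0, 0, 1, 0, 0, 0, 0, 0, 0, 1, 0],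
   [2, 1, 0, 3, 0, 0, 3, 3, 0, 3, 0, 0, 1, 2, 0, 3, 0, 0, 0, 0, 1, 0, 1, 1, 0, 0, 1, 0, 2, 3, 0, 0, 1, 0, 3, 2]]

/-- A word for an element of the second maximal subgroup through the Sylow subgroup. -/
def secondWord : List ℕ := [9, 6, 6, 0, 0]

/-- Its matrix. -/
def secondC : List ℕ := [1, 1, 1, 0, 0, 0, 2, 1, 3, 0, 0, 0, 3, 1, 2, 0, 0, 0, 0, 0, 0, 1, 1, 1, 0, 0, 0, 1, 2, 3, 0, 0, 0, 1, 3, 2]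

/-- The odd transposition. -/
def swapC : List ℕ := [0, 1, 0, 0, 0, 0, 1, 0, 0, 0, 0, 0, 0, 0, 1, 0, 0, 0, 0, 0, 0, 1, 0, 0, 0, 0, 0, 0, 1, 0, 0, 0, 0, 0, 0, 1]

/-- The conjugates of the element of order five by the outer diagonal element. -/
def fiveC : List (List ℕ) := [
   [2, 1, 0, 3, 0, 0, 3, 3, 0, 3, 0, 0, 1, 2, 0, 3, 0, 0, 0, 0, 1, 0, 1, 1, 0, 0, 1, 0, 2, 3, 0, 0, 1, 0, 3, 2],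
   [2, 2, 0, 1, 0, 0, 2, 3, 0, 3, 0, 0, 3, 2, 0, 3, 0, 0, 0, 0, 1, 0, 1, 1, 0, 0, 1, 0, 2, 3, 0, 0, 1, 0, 3, 2],
   [2, 3, 0, 2, 0, 0, 1, 3, 0, 3, 0, 0, 2, 2, 0, 3, 0, 0, 0, 0, 1, 0, 1, 1, 0, 0, 1, 0, 2, 3, 0, 0, 1, 0, 3, 2]]

/-- Representatives of the unitary group of degree three modulo monomial matrices. -/
def repsC : List (List ℕ) := [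
   [1, 0, 0, 0, 1, 0, 0, 0, 1],
   [1, 1, 1, 1, 2, 3, 1, 3, 2],
   [1, 1, 3, 1, 2, 2, 2, 1, 2],
   [1, 1, 2, 1, 2, 1, 3, 2, 2]]

/-- The block diagonal candidates, row `4 i + j`. -/
def blocksC : List (List ℕ) := [
   [1, 0, 0, 0, 0, 0, 0, 1, 0, 0, 0, 0, 0, 0, 1, 0, 0, 0, 0, 0, 0, 1, 0, 0, 0, 0, 0, 0, 1, 0, 0, 0, 0, 0, 0, 1],
   [1, 0, 0, 0, 0, 0, 0, 1, 0, 0, 0, 0, 0, 0, 1, 0, 0, 0, 0, 0, 0, 1, 1, 1, 0, 0, 0, 1, 2, 3, 0, 0, 0, 1, 3, 2],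
   [1, 0, 0, 0, 0, 0, 0, 1, 0, 0, 0, 0, 0, 0, 1, 0, 0, 0, 0, 0, 0, 1, 1, 3, 0, 0, 0, 1, 2, 2, 0, 0, 0, 2, 1, 2],
   [1, 0, 0, 0, 0, 0, 0, 1, 0, 0, 0, 0, 0, 0, 1, 0, 0, 0, 0, 0, 0, 1, 1, 2, 0, 0, 0, 1, 2, 1, 0, 0, 0, 3, 2, 2],
   [1, 1, 1, 0, 0, 0, 1, 2, 3, 0, 0, 0, 1, 3, 2, 0, 0, 0, 0, 0, 0, 1, 0, 0, 0, 0, 0, 0, 1, 0, 0, 0, 0, 0, 0, 1],
   [1, 1, 1, 0, 0, 0, 1, 2, 3, 0, 0, 0, 1, 3, 2, 0, 0, 0, 0, 0, 0, 1, 1, 1, 0, 0, 0, 1, 2, 3, 0, 0, 0, 1, 3, 2],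
   [1, 1, 1, 0, 0, 0, 1, 2, 3, 0, 0, 0, 1, 3, 2, 0, 0, 0, 0, 0, 0, 1, 1, 3, 0, 0, 0, 1, 2, 2, 0, 0, 0, 2, 1, 2],
   [1, 1, 1, 0, 0, 0, 1, 2, 3, 0, 0, 0, 1, 3, 2, 0, 0, 0, 0, 0, 0, 1, 1, 2, 0, 0, 0, 1, 2, 1, 0, 0, 0, 3, 2, 2],
   [1, 1, 3, 0, 0, 0, 1, 2, 2, 0, 0, 0, 2, 1, 2, 0, 0, 0, 0, 0, 0, 1, 0, 0, 0, 0, 0, 0, 1, 0, 0, 0, 0, 0, 0, 1],
   [1, 1, 3, 0, 0, 0, 1, 2, 2, 0, 0, 0, 2, 1, 2, 0, 0, 0, 0, 0, 0, 1, 1, 1, 0, 0, 0, 1, 2, 3, 0, 0, 0, 1, 3, 2],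
   [1, 1, 3, 0, 0, 0, 1, 2, 2, 0, 0, 0, 2, 1, 2, 0, 0, 0, 0, 0, 0, 1, 1, 3, 0, 0, 0, 1, 2, 2, 0, 0, 0, 2, 1, 2],
   [1, 1, 3, 0, 0, 0, 1, 2, 2, 0, 0, 0, 2, 1, 2, 0, 0, 0, 0, 0, 0, 1, 1, 2, 0, 0, 0, 1, 2, 1, 0, 0, 0, 3, 2, 2],
   [1, 1, 2, 0, 0, 0, 1, 2, 1, 0, 0, 0, 3, 2, 2, 0, 0, 0, 0, 0, 0, 1, 0, 0, 0, 0, 0, 0, 1, 0, 0, 0, 0, 0, 0, 1],
   [1, 1, 2, 0, 0, 0, 1, 2, 1, 0, 0, 0, 3, 2, 2, 0, 0, 0, 0, 0, 0, 1, 1, 1, 0, 0, 0, 1, 2, 3, 0, 0, 0, 1, 3, 2],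
   [1, 1, 2, 0, 0, 0, 1, 2, 1, 0, 0, 0, 3, 2, 2, 0, 0, 0, 0, 0, 0, 1, 1, 3, 0, 0, 0, 1, 2, 2, 0, 0, 0, 2, 1, 2],
   [1, 1, 2, 0, 0, 0, 1, 2, 1, 0, 0, 0, 3, 2, 2, 0, 0, 0, 0, 0, 0, 1, 1, 2, 0, 0, 0, 1, 2, 1, 0, 0, 0, 3, 2, 2]]

/-- For each candidate `(4 i + j, e)`: the kind of certificate, the class, the word. -/
def candC : List (List ℕ) := [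
   [0, 1, 1, 0, 9],
   [1, 0, 2, 0, 4, 9, 6],
   [1, 1, 2, 0, 3, 9, 6],
   [2, 0, 2, 0, 9, 4, 6],
   [2, 1, 2, 0, 8, 9, 6],
   [3, 0, 2, 0, 4, 9, 6],
   [3, 1, 2, 0, 6, 9, 7],
   [4, 0, 2, 0, 1, 7, 9],
   [4, 1, 2, 0, 9, 1, 7],
   [5, 0, 1, 0, 9, 2, 9, 2, 9, 0, 0, 1, 2, 5, 6, 7, 8],
   [5, 1, 0, 0, 9, 0, 6],
   [6, 0, 1, 0, 9, 2, 9, 2, 9, 0, 0, 1, 2, 4, 4, 5, 6, 7, 8],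
   [6, 1, 0, 1, 2, 9, 0, 1, 1, 2, 2, 4, 5, 8, 8, 6],
   [7, 0, 1, 0, 9, 2, 9, 2, 9, 0, 0, 1, 2, 4, 5, 6, 7, 8],
   [7, 1, 0, 2, 2, 2, 9, 0, 2, 4, 4, 5, 5, 8, 6],
   [8, 0, 2, 0, 7, 1, 9],
   [8, 1, 2, 0, 7, 9, 5],
   [9, 0, 1, 0, 9, 2, 9, 2, 9, 0, 0, 1, 2, 5, 6, 7, 8],
   [9, 1, 0, 1, 9, 0, 1, 1, 5, 6],
   [10, 0, 1, 0, 9, 2, 9, 2, 9, 0, 0, 1, 2, 4, 4, 5, 6, 7, 8],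
   [10, 1, 0, 2, 2, 9, 0, 2, 2, 4, 5, 5, 8, 8, 6],
   [11, 0, 1, 0, 9, 2, 9, 2, 9, 0, 0, 1, 2, 4, 5, 6, 7, 8],
   [11, 1, 0, 0, 2, 2, 9, 0, 2, 4, 4, 8, 6],
   [12, 0, 2, 0, 7, 5, 9],
   [12, 1, 2, 0, 5, 9, 7],
   [13, 0, 1, 0, 9, 2, 9, 2, 9, 0, 0, 1, 2, 5, 6, 7, 8],
   [13, 1, 0, 2, 9, 0, 5, 5, 6],
   [14, 0, 1, 0, 9, 2, 9, 2, 9, 0, 0, 1, 2, 4, 4, 5, 6, 7, 8],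
   [14, 1, 0, 0, 2, 9, 0, 2, 2, 4, 8, 8, 6],
   [15, 0, 1, 0, 9, 2, 9, 2, 9, 0, 0, 1, 2, 4, 5, 6, 7, 8],
   [15, 1, 0, 1, 2, 2, 9, 0, 1, 1, 2, 4, 4, 5, 8, 6]]

/-- Words for the conjugates by the transposition. -/
def normC : List (List ℕ) := [
   [9, 0],
   [9, 1, 2, 6, 5, 5],
   [9, 0, 1, 2, 5, 6, 6]]

/-- Words of order eleven separating the three classes. -/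
def splitC : List (List ℕ) := [
   [10, 9, 5, 7],
   [9, 10, 0, 3],
   [3, 10, 9, 6]]

/-- The 112 frames, six vectors each. -/
def framesC : List (List ℕ) := [
   [1, 0, 0, 0, 0, 0, 0, 1, 0, 0, 0, 0, 0, 0, 1, 0, 0, 0, 0, 0, 0, 1, 0, 0, 0, 0, 0, 0, 1, 0, 0, 0, 0, 0, 0, 1],
   [1, 3, 2, 0, 0, 0, 1, 2, 3, 0, 0, 0, 1, 1, 1, 0, 0, 0, 0, 0, 0, 1, 3, 2, 0, 0, 0, 1, 2, 3, 0, 0, 0, 1, 1, 1],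
   [1, 3, 3, 0, 0, 0, 1, 2, 1, 0, 0, 0, 1, 1, 2, 0, 0, 0, 0, 0, 0, 1, 3, 1, 0, 0, 0, 1, 2, 2, 0, 0, 0, 1, 1, 3],
   [1, 0, 3, 2, 0, 0, 1, 0, 2, 3, 0, 0, 1, 0, 1, 1, 0, 0, 0, 1, 0, 0, 3, 2, 0, 1, 0, 0, 2, 3, 0, 1, 0, 0, 1, 1],
   [1, 3, 0, 2, 0, 0, 1, 2, 0, 3, 0, 0, 1, 1, 0, 1, 0, 0, 0, 0, 1, 0, 3, 2, 0, 0, 1, 0, 2, 3, 0, 0, 1, 0, 1, 1],
   [1, 1, 1, 2, 2, 0, 1, 1, 1, 2, 0, 2, 1, 1, 1, 0, 2, 2, 1, 1, 0, 2, 2, 2, 1, 0, 1, 2, 2, 2, 0, 1, 1, 2, 2, 2],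
   [1, 3, 1, 0, 0, 0, 1, 2, 2, 0, 0, 0, 1, 1, 3, 0, 0, 0, 0, 0, 0, 1, 3, 3, 0, 0, 0, 1, 2, 1, 0, 0, 0, 1, 1, 2],
   [1, 0, 3, 3, 0, 0, 1, 0, 2, 1, 0, 0, 1, 0, 1, 2, 0, 0, 0, 1, 0, 0, 3, 1, 0, 1, 0, 0, 2, 2, 0, 1, 0, 0, 1, 3],
   [1, 3, 0, 3, 0, 0, 1, 2, 0, 1, 0, 0, 1, 1, 0, 2, 0, 0, 0, 0, 1, 0, 3, 1, 0, 0, 1, 0, 2, 2, 0, 0, 1, 0, 1, 3],
   [1, 1, 1, 3, 3, 0, 1, 1, 1, 3, 0, 3, 1, 1, 1, 0, 3, 3, 1, 1, 0, 3, 3, 3, 1, 0, 1, 3, 3, 3, 0, 1, 1, 3, 3, 3],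
   [1, 0, 3, 1, 0, 0, 1, 0, 2, 2, 0, 0, 1, 0, 1, 3, 0, 0, 0, 1, 0, 0, 3, 3, 0, 1, 0, 0, 2, 1, 0, 1, 0, 0, 1, 2],
   [1, 0, 0, 3, 2, 0, 1, 0, 0, 2, 3, 0, 1, 0, 0, 1, 1, 0, 0, 1, 3, 0, 0, 2, 0, 1, 2, 0, 0, 3, 0, 1, 1, 0, 0, 1],
   [1, 0, 3, 0, 2, 0, 1, 0, 2, 0, 3, 0, 1, 0, 1, 0, 1, 0, 0, 1, 0, 3, 0, 2, 0, 1, 0, 2, 0, 3, 0, 1, 0, 1, 0, 1],
   [1, 3, 2, 1, 1, 0, 1, 3, 2, 1, 0, 1, 1, 3, 2, 0, 1, 1, 1, 3, 0, 1, 1, 1, 1, 0, 2, 1, 1, 1, 0, 1, 3, 2, 2, 2],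
   [1, 3, 0, 1, 0, 0, 1, 2, 0, 2, 0, 0, 1, 1, 0, 3, 0, 0, 0, 0, 1, 0, 3, 3, 0, 0, 1, 0, 2, 1, 0, 0, 1, 0, 1, 2],
   [1, 0, 0, 0, 3, 2, 1, 0, 0, 0, 2, 3, 1, 0, 0, 0, 1, 1, 0, 1, 3, 2, 0, 0, 0, 1, 2, 3, 0, 0, 0, 1, 1, 1, 0, 0],
   [1, 3, 0, 0, 2, 0, 1, 2, 0, 0, 3, 0, 1, 1, 0, 0, 1, 0, 0, 0, 1, 3, 0, 2, 0, 0, 1, 2, 0, 3, 0, 0, 1, 1, 0, 1],
   [1, 2, 3, 1, 1, 0, 1, 2, 3, 1, 0, 1, 1, 2, 3, 0, 1, 1, 1, 2, 0, 1, 1, 1, 1, 0, 3, 1, 1, 1, 0, 1, 2, 3, 3, 3],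
   [1, 2, 3, 2, 2, 0, 1, 2, 3, 2, 0, 2, 1, 2, 3, 0, 2, 2, 1, 2, 0, 2, 2, 2, 1, 0, 3, 2, 2, 2, 0, 1, 2, 1, 1, 1],
   [1, 1, 2, 1, 2, 0, 1, 1, 2, 1, 0, 2, 1, 1, 2, 0, 2, 2, 1, 1, 0, 1, 2, 2, 1, 0, 2, 1, 2, 2, 0, 1, 2, 1, 2, 2],
   [1, 1, 1, 3, 1, 0, 1, 1, 1, 3, 0, 2, 1, 1, 1, 0, 1, 2, 1, 1, 0, 3, 1, 2, 1, 0, 1, 3, 1, 2, 0, 1, 1, 3, 1, 2],
   [1, 1, 1, 2, 3, 0, 1, 1, 1, 2, 0, 1, 1, 1, 1, 0, 3, 1, 1, 1, 0, 2, 3, 1, 1, 0, 1, 2, 3, 1, 0, 1, 1, 2, 3, 1],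
   [1, 2, 1, 1, 2, 0, 1, 2, 1, 1, 0, 2, 1, 2, 1, 0, 2, 2, 1, 2, 0, 1, 2, 2, 1, 0, 1, 1, 2, 2, 0, 1, 3, 3, 1, 1],
   [1, 3, 1, 2, 1, 0, 1, 3, 1, 2, 0, 1, 1, 3, 1, 0, 1, 1, 1, 3, 0, 2, 1, 1, 1, 0, 1, 2, 1, 1, 0, 1, 2, 3, 2, 2],
   [1, 1, 1, 1, 1, 0, 1, 1, 1, 1, 0, 1, 1, 1, 1, 0, 1, 1, 1, 1, 0, 1, 1, 1, 1, 0, 1, 1, 1, 1, 0, 1, 1, 1, 1, 1],
   [1, 0, 0, 3, 3, 0, 1, 0, 0, 2, 1, 0, 1, 0, 0, 1, 2, 0, 0, 1, 3, 0, 0, 1, 0, 1, 2, 0, 0, 2, 0, 1, 1, 0, 0, 3],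
   [1, 0, 3, 0, 3, 0, 1, 0, 2, 0, 1, 0, 1, 0, 1, 0, 2, 0, 0, 1, 0, 3, 0, 1, 0, 1, 0, 2, 0, 2, 0, 1, 0, 1, 0, 3],
   [1, 3, 2, 2, 2, 0, 1, 3, 2, 2, 0, 2, 1, 3, 2, 0, 2, 2, 1, 3, 0, 2, 2, 2, 1, 0, 2, 2, 2, 2, 0, 1, 3, 3, 3, 3],
   [1, 0, 0, 0, 3, 1, 1, 0, 0, 0, 2, 2, 1, 0, 0, 0, 1, 3, 0, 1, 3, 3, 0, 0, 0, 1, 2, 1, 0, 0, 0, 1, 1, 2, 0, 0],
   [1, 3, 0, 0, 3, 0, 1, 2, 0, 0, 1, 0, 1, 1, 0, 0, 2, 0, 0, 0, 1, 3, 0, 1, 0, 0, 1, 2, 0, 2, 0, 0, 1, 1, 0, 3],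
   [1, 2, 3, 3, 3, 0, 1, 2, 3, 3, 0, 3, 1, 2, 3, 0, 3, 3, 1, 2, 0, 3, 3, 3, 1, 0, 3, 3, 3, 3, 0, 1, 2, 2, 2, 2],
   [1, 1, 2, 2, 3, 0, 1, 1, 2, 2, 0, 3, 1, 1, 2, 0, 3, 3, 1, 1, 0, 2, 3, 3, 1, 0, 2, 2, 3, 3, 0, 1, 2, 2, 3, 3],
   [1, 1, 1, 1, 2, 0, 1, 1, 1, 1, 0, 3, 1, 1, 1, 0, 2, 3, 1, 1, 0, 1, 2, 3, 1, 0, 1, 1, 2, 3, 0, 1, 1, 1, 2, 3],
   [1, 3, 1, 1, 3, 0, 1, 3, 1, 1, 0, 3, 1, 3, 1, 0, 3, 3, 1, 3, 0, 1, 3, 3, 1, 0, 1, 1, 3, 3, 0, 1, 2, 2, 1, 1],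
   [1, 1, 3, 1, 3, 0, 1, 1, 3, 1, 0, 3, 1, 1, 3, 0, 3, 3, 1, 1, 0, 1, 3, 3, 1, 0, 3, 1, 3, 3, 0, 1, 3, 1, 3, 3],
   [1, 2, 1, 2, 3, 0, 1, 2, 1, 2, 0, 3, 1, 2, 1, 0, 3, 3, 1, 2, 0, 2, 3, 3, 1, 0, 1, 2, 3, 3, 0, 1, 3, 1, 2, 2],
   [1, 0, 0, 3, 1, 0, 1, 0, 0, 2, 2, 0, 1, 0, 0, 1, 3, 0, 0, 1, 3, 0, 0, 3, 0, 1, 2, 0, 0, 1, 0, 1, 1, 0, 0, 2],
   [1, 0, 3, 0, 1, 0, 1, 0, 2, 0, 2, 0, 1, 0, 1, 0, 3, 0, 0, 1, 0, 3, 0, 3, 0, 1, 0, 2, 0, 1, 0, 1, 0, 1, 0, 2],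
   [1, 3, 2, 3, 3, 0, 1, 3, 2, 3, 0, 3, 1, 3, 2, 0, 3, 3, 1, 3, 0, 3, 3, 3, 1, 0, 2, 3, 3, 3, 0, 1, 3, 1, 1, 1],
   [1, 0, 3, 0, 0, 2, 1, 0, 2, 0, 0, 3, 1, 0, 1, 0, 0, 1, 0, 1, 0, 3, 2, 0, 0, 1, 0, 2, 3, 0, 0, 1, 0, 1, 1, 0],
   [1, 3, 2, 1, 2, 0, 1, 3, 2, 1, 0, 3, 1, 3, 2, 0, 2, 3, 1, 3, 0, 1, 2, 3, 1, 0, 2, 1, 2, 3, 0, 1, 3, 2, 3, 1],
   [1, 2, 3, 3, 2, 0, 1, 2, 3, 3, 0, 1, 1, 2, 3, 0, 2, 1, 1, 2, 0, 3, 2, 1, 1, 0, 3, 3, 2, 1, 0, 1, 2, 2, 1, 3],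
   [1, 3, 3, 3, 1, 0, 1, 3, 3, 3, 0, 1, 1, 3, 3, 0, 1, 1, 1, 3, 0, 3, 1, 1, 1, 0, 3, 3, 1, 1, 0, 1, 1, 1, 2, 2],
   [1, 3, 2, 2, 3, 0, 1, 3, 2, 2, 0, 1, 1, 3, 2, 0, 3, 1, 1, 3, 0, 2, 3, 1, 1, 0, 2, 2, 3, 1, 0, 1, 3, 3, 1, 2],
   [1, 1, 3, 2, 1, 0, 1, 1, 3, 2, 0, 1, 1, 1, 3, 0, 1, 1, 1, 1, 0, 2, 1, 1, 1, 0, 3, 2, 1, 1, 0, 1, 3, 2, 1, 1],
   [1, 0, 0, 0, 3, 3, 1, 0, 0, 0, 2, 1, 1, 0, 0, 0, 1, 2, 0, 1, 3, 1, 0, 0, 0, 1, 2, 2, 0, 0, 0, 1, 1, 3, 0, 0],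
   [1, 3, 0, 0, 1, 0, 1, 2, 0, 0, 2, 0, 1, 1, 0, 0, 3, 0, 0, 0, 1, 3, 0, 3, 0, 0, 1, 2, 0, 1, 0, 0, 1, 1, 0, 2],
   [1, 0, 0, 3, 0, 2, 1, 0, 0, 2, 0, 3, 1, 0, 0, 1, 0, 1, 0, 1, 3, 0, 2, 0, 0, 1, 2, 0, 3, 0, 0, 1, 1, 0, 1, 0],
   [1, 3, 0, 0, 0, 2, 1, 2, 0, 0, 0, 3, 1, 1, 0, 0, 0, 1, 0, 0, 1, 3, 2, 0, 0, 0, 1, 2, 3, 0, 0, 0, 1, 1, 1, 0],
   [1, 2, 1, 3, 1, 0, 1, 2, 1, 3, 0, 1, 1, 2, 1, 0, 1, 1, 1, 2, 0, 3, 1, 1, 1, 0, 1, 3, 1, 1, 0, 1, 3, 2, 3, 3],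
   [1, 2, 3, 2, 3, 0, 1, 2, 3, 2, 0, 1, 1, 2, 3, 0, 3, 1, 1, 2, 0, 2, 3, 1, 1, 0, 3, 2, 3, 1, 0, 1, 2, 1, 2, 3],
   [1, 2, 3, 1, 2, 0, 1, 2, 3, 1, 0, 3, 1, 2, 3, 0, 2, 3, 1, 2, 0, 1, 2, 3, 1, 0, 3, 1, 2, 3, 0, 1, 2, 3, 1, 2],
   [1, 1, 2, 3, 1, 0, 1, 1, 2, 3, 0, 1, 1, 1, 2, 0, 1, 1, 1, 1, 0, 3, 1, 1, 1, 0, 2, 3, 1, 1, 0, 1, 2, 3, 1, 1],
   [1, 2, 2, 3, 2, 0, 1, 2, 2, 3, 0, 2, 1, 2, 2, 0, 2, 2, 1, 2, 0, 3, 2, 2, 1, 0, 2, 3, 2, 2, 0, 1, 1, 2, 1, 1],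
   [1, 2, 3, 3, 1, 0, 1, 2, 3, 3, 0, 2, 1, 2, 3, 0, 1, 2, 1, 2, 0, 3, 1, 2, 1, 0, 3, 3, 1, 2, 0, 1, 2, 2, 3, 1],
   [1, 3, 3, 1, 2, 0, 1, 3, 3, 1, 0, 2, 1, 3, 3, 0, 2, 2, 1, 3, 0, 1, 2, 2, 1, 0, 3, 1, 2, 2, 0, 1, 1, 2, 3, 3],
   [1, 1, 3, 3, 2, 0, 1, 1, 3, 3, 0, 2, 1, 1, 3, 0, 2, 2, 1, 1, 0, 3, 2, 2, 1, 0, 3, 3, 2, 2, 0, 1, 3, 3, 2, 2],
   [1, 1, 2, 2, 1, 0, 1, 1, 2, 2, 0, 2, 1, 1, 2, 0, 1, 2, 1, 1, 0, 2, 1, 2, 1, 0, 2, 2, 1, 2, 0, 1, 2, 2, 1, 2],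
   [1, 1, 2, 1, 3, 0, 1, 1, 2, 1, 0, 1, 1, 1, 2, 0, 3, 1, 1, 1, 0, 1, 3, 1, 1, 0, 2, 1, 3, 1, 0, 1, 2, 1, 3, 1],
   [1, 1, 1, 1, 3, 0, 1, 1, 1, 1, 0, 2, 1, 1, 1, 0, 3, 2, 1, 1, 0, 1, 3, 2, 1, 0, 1, 1, 3, 2, 0, 1, 1, 1, 3, 2],
   [1, 1, 1, 3, 2, 0, 1, 1, 1, 3, 0, 1, 1, 1, 1, 0, 2, 1, 1, 1, 0, 3, 2, 1, 1, 0, 1, 3, 2, 1, 0, 1, 1, 3, 2, 1],
   [1, 3, 1, 1, 1, 0, 1, 3, 1, 1, 0, 2, 1, 3, 1, 0, 1, 2, 1, 3, 0, 1, 1, 2, 1, 0, 1, 1, 1, 2, 0, 1, 2, 2, 2, 3],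
   [1, 2, 1, 3, 3, 0, 1, 2, 1, 3, 0, 2, 1, 2, 1, 0, 3, 2, 1, 2, 0, 3, 3, 2, 1, 0, 1, 3, 3, 2, 0, 1, 3, 2, 2, 1],
   [1, 1, 1, 2, 1, 0, 1, 1, 1, 2, 0, 3, 1, 1, 1, 0, 1, 3, 1, 1, 0, 2, 1, 3, 1, 0, 1, 2, 1, 3, 0, 1, 1, 2, 1, 3],
   [1, 2, 1, 1, 3, 0, 1, 2, 1, 1, 0, 1, 1, 2, 1, 0, 3, 1, 1, 2, 0, 1, 3, 1, 1, 0, 1, 1, 3, 1, 0, 1, 3, 3, 2, 3],
   [1, 1, 3, 1, 2, 0, 1, 1, 3, 1, 0, 1, 1, 1, 3, 0, 2, 1, 1, 1, 0, 1, 2, 1, 1, 0, 3, 1, 2, 1, 0, 1, 3, 1, 2, 1],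
   [1, 2, 1, 2, 1, 0, 1, 2, 1, 2, 0, 2, 1, 2, 1, 0, 1, 2, 1, 2, 0, 2, 1, 2, 1, 0, 1, 2, 1, 2, 0, 1, 3, 1, 3, 1],
   [1, 2, 2, 1, 1, 0, 1, 2, 2, 1, 0, 2, 1, 2, 2, 0, 1, 2, 1, 2, 0, 1, 1, 2, 1, 0, 2, 1, 1, 2, 0, 1, 1, 3, 3, 1],
   [1, 2, 2, 1, 3, 0, 1, 2, 2, 1, 0, 3, 1, 2, 2, 0, 3, 3, 1, 2, 0, 1, 3, 3, 1, 0, 2, 1, 3, 3, 0, 1, 1, 3, 2, 2],
   [1, 3, 1, 3, 3, 0, 1, 3, 1, 3, 0, 1, 1, 3, 1, 0, 3, 1, 1, 3, 0, 3, 3, 1, 1, 0, 1, 3, 3, 1, 0, 1, 2, 1, 1, 2],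
   [1, 3, 1, 2, 2, 0, 1, 3, 1, 2, 0, 3, 1, 3, 1, 0, 2, 3, 1, 3, 0, 2, 2, 3, 1, 0, 1, 2, 2, 3, 0, 1, 2, 3, 3, 1],
   [1, 3, 1, 1, 2, 0, 1, 3, 1, 1, 0, 1, 1, 3, 1, 0, 2, 1, 1, 3, 0, 1, 2, 1, 1, 0, 1, 1, 2, 1, 0, 1, 2, 2, 3, 2],
   [1, 0, 3, 0, 0, 1, 1, 0, 2, 0, 0, 2, 1, 0, 1, 0, 0, 3, 0, 1, 0, 3, 3, 0, 0, 1, 0, 2, 1, 0, 0, 1, 0, 1, 2, 0],
   [1, 0, 3, 0, 0, 3, 1, 0, 2, 0, 0, 1, 1, 0, 1, 0, 0, 2, 0, 1, 0, 3, 1, 0, 0, 1, 0, 2, 2, 0, 0, 1, 0, 1, 3, 0],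
   [1, 2, 3, 2, 1, 0, 1, 2, 3, 2, 0, 3, 1, 2, 3, 0, 1, 3, 1, 2, 0, 2, 1, 3, 1, 0, 3, 2, 1, 3, 0, 1, 2, 1, 3, 2],
   [1, 3, 2, 3, 1, 0, 1, 3, 2, 3, 0, 2, 1, 3, 2, 0, 1, 2, 1, 3, 0, 3, 1, 2, 1, 0, 2, 3, 1, 2, 0, 1, 3, 1, 2, 3],
   [1, 0, 0, 3, 0, 1, 1, 0, 0, 2, 0, 2, 1, 0, 0, 1, 0, 3, 0, 1, 3, 0, 3, 0, 0, 1, 2, 0, 1, 0, 0, 1, 1, 0, 2, 0],
   [1, 3, 0, 0, 0, 3, 1, 2, 0, 0, 0, 1, 1, 1, 0, 0, 0, 2, 0, 0, 1, 3, 1, 0, 0, 0, 1, 2, 2, 0, 0, 0, 1, 1, 3, 0],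
   [1, 1, 2, 3, 2, 0, 1, 1, 2, 3, 0, 3, 1, 1, 2, 0, 2, 3, 1, 1, 0, 3, 2, 3, 1, 0, 2, 3, 2, 3, 0, 1, 2, 3, 2, 3],
   [1, 1, 3, 2, 2, 0, 1, 1, 3, 2, 0, 3, 1, 1, 3, 0, 2, 3, 1, 1, 0, 2, 2, 3, 1, 0, 3, 2, 2, 3, 0, 1, 3, 2, 2, 3],
   [1, 3, 1, 3, 2, 0, 1, 3, 1, 3, 0, 2, 1, 3, 1, 0, 2, 2, 1, 3, 0, 3, 2, 2, 1, 0, 1, 3, 2, 2, 0, 1, 2, 1, 3, 3],
   [1, 1, 2, 1, 1, 0, 1, 1, 2, 1, 0, 3, 1, 1, 2, 0, 1, 3, 1, 1, 0, 1, 1, 3, 1, 0, 2, 1, 1, 3, 0, 1, 2, 1, 1, 3],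
   [1, 3, 3, 1, 1, 0, 1, 3, 3, 1, 0, 3, 1, 3, 3, 0, 1, 3, 1, 3, 0, 1, 1, 3, 1, 0, 3, 1, 1, 3, 0, 1, 1, 2, 2, 1],
   [1, 3, 1, 3, 1, 0, 1, 3, 1, 3, 0, 3, 1, 3, 1, 0, 1, 3, 1, 3, 0, 3, 1, 3, 1, 0, 1, 3, 1, 3, 0, 1, 2, 1, 2, 1],
   [1, 1, 3, 1, 1, 0, 1, 1, 3, 1, 0, 2, 1, 1, 3, 0, 1, 2, 1, 1, 0, 1, 1, 2, 1, 0, 3, 1, 1, 2, 0, 1, 3, 1, 1, 2],
   [1, 2, 2, 2, 1, 0, 1, 2, 2, 2, 0, 1, 1, 2, 2, 0, 1, 1, 1, 2, 0, 2, 1, 1, 1, 0, 2, 2, 1, 1, 0, 1, 1, 1, 3, 3],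
   [1, 1, 3, 3, 1, 0, 1, 1, 3, 3, 0, 3, 1, 1, 3, 0, 1, 3, 1, 1, 0, 3, 1, 3, 1, 0, 3, 3, 1, 3, 0, 1, 3, 3, 1, 3],
   [1, 3, 3, 2, 3, 0, 1, 3, 3, 2, 0, 3, 1, 3, 3, 0, 3, 3, 1, 3, 0, 2, 3, 3, 1, 0, 3, 2, 3, 3, 0, 1, 1, 3, 1, 1],
   [1, 2, 1, 3, 2, 0, 1, 2, 1, 3, 0, 3, 1, 2, 1, 0, 2, 3, 1, 2, 0, 3, 2, 3, 1, 0, 1, 3, 2, 3, 0, 1, 3, 2, 1, 2],
   [1, 2, 3, 1, 3, 0, 1, 2, 3, 1, 0, 2, 1, 2, 3, 0, 3, 2, 1, 2, 0, 1, 3, 2, 1, 0, 3, 1, 3, 2, 0, 1, 2, 3, 2, 1],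
   [1, 3, 3, 3, 2, 0, 1, 3, 3, 3, 0, 3, 1, 3, 3, 0, 2, 3, 1, 3, 0, 3, 2, 3, 1, 0, 3, 3, 2, 3, 0, 1, 1, 1, 3, 1],
   [1, 3, 2, 2, 1, 0, 1, 3, 2, 2, 0, 3, 1, 3, 2, 0, 1, 3, 1, 3, 0, 2, 1, 3, 1, 0, 2, 2, 1, 3, 0, 1, 3, 3, 2, 1],
   [1, 3, 2, 1, 3, 0, 1, 3, 2, 1, 0, 2, 1, 3, 2, 0, 3, 2, 1, 3, 0, 1, 3, 2, 1, 0, 2, 1, 3, 2, 0, 1, 3, 2, 1, 3],
   [1, 1, 2, 3, 3, 0, 1, 1, 2, 3, 0, 2, 1, 1, 2, 0, 3, 2, 1, 1, 0, 3, 3, 2, 1, 0, 2, 3, 3, 2, 0, 1, 2, 3, 3, 2],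
   [1, 3, 2, 3, 2, 0, 1, 3, 2, 3, 0, 1, 1, 3, 2, 0, 2, 1, 1, 3, 0, 3, 2, 1, 1, 0, 2, 3, 2, 1, 0, 1, 3, 1, 3, 2],
   [1, 2, 1, 2, 2, 0, 1, 2, 1, 2, 0, 1, 1, 2, 1, 0, 2, 1, 1, 2, 0, 2, 2, 1, 1, 0, 1, 2, 2, 1, 0, 1, 3, 1, 1, 3],
   [1, 2, 2, 3, 3, 0, 1, 2, 2, 3, 0, 1, 1, 2, 2, 0, 3, 1, 1, 2, 0, 3, 3, 1, 1, 0, 2, 3, 3, 1, 0, 1, 1, 2, 2, 3],
   [1, 3, 3, 1, 3, 0, 1, 3, 3, 1, 0, 1, 1, 3, 3, 0, 3, 1, 1, 3, 0, 1, 3, 1, 1, 0, 3, 1, 3, 1, 0, 1, 1, 2, 1, 2],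
   [1, 3, 3, 2, 2, 0, 1, 3, 3, 2, 0, 1, 1, 3, 3, 0, 2, 1, 1, 3, 0, 2, 2, 1, 1, 0, 3, 2, 2, 1, 0, 1, 1, 3, 3, 2],
   [1, 1, 3, 3, 3, 0, 1, 1, 3, 3, 0, 1, 1, 1, 3, 0, 3, 1, 1, 1, 0, 3, 3, 1, 1, 0, 3, 3, 3, 1, 0, 1, 3, 3, 3, 1],
   [1, 0, 0, 3, 0, 3, 1, 0, 0, 2, 0, 1, 1, 0, 0, 1, 0, 2, 0, 1, 3, 0, 1, 0, 0, 1, 2, 0, 2, 0, 0, 1, 1, 0, 3, 0],
   [1, 3, 0, 0, 0, 1, 1, 2, 0, 0, 0, 2, 1, 1, 0, 0, 0, 3, 0, 0, 1, 3, 3, 0, 0, 0, 1, 2, 1, 0, 0, 0, 1, 1, 2, 0],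
   [1, 2, 2, 3, 1, 0, 1, 2, 2, 3, 0, 3, 1, 2, 2, 0, 1, 3, 1, 2, 0, 3, 1, 3, 1, 0, 2, 3, 1, 3, 0, 1, 1, 2, 3, 2],
   [1, 2, 2, 2, 2, 0, 1, 2, 2, 2, 0, 3, 1, 2, 2, 0, 2, 3, 1, 2, 0, 2, 2, 3, 1, 0, 2, 2, 2, 3, 0, 1, 1, 1, 1, 2],
   [1, 2, 2, 2, 3, 0, 1, 2, 2, 2, 0, 2, 1, 2, 2, 0, 3, 2, 1, 2, 0, 2, 3, 2, 1, 0, 2, 2, 3, 2, 0, 1, 1, 1, 2, 1],
   [1, 3, 3, 2, 1, 0, 1, 3, 3, 2, 0, 2, 1, 3, 3, 0, 1, 2, 1, 3, 0, 2, 1, 2, 1, 0, 3, 2, 1, 2, 0, 1, 1, 3, 2, 3],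
   [1, 1, 3, 2, 3, 0, 1, 1, 3, 2, 0, 2, 1, 1, 3, 0, 3, 2, 1, 1, 0, 2, 3, 2, 1, 0, 3, 2, 3, 2, 0, 1, 3, 2, 3, 2],
   [1, 1, 2, 2, 2, 0, 1, 1, 2, 2, 0, 1, 1, 1, 2, 0, 2, 1, 1, 1, 0, 2, 2, 1, 1, 0, 2, 2, 2, 1, 0, 1, 2, 2, 2, 1],
   [1, 3, 1, 2, 3, 0, 1, 3, 1, 2, 0, 2, 1, 3, 1, 0, 3, 2, 1, 3, 0, 2, 3, 2, 1, 0, 1, 2, 3, 2, 0, 1, 2, 3, 1, 3],
   [1, 3, 3, 3, 3, 0, 1, 3, 3, 3, 0, 2, 1, 3, 3, 0, 3, 2, 1, 3, 0, 3, 3, 2, 1, 0, 3, 3, 3, 2, 0, 1, 1, 1, 1, 3],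
   [1, 2, 1, 1, 1, 0, 1, 2, 1, 1, 0, 3, 1, 2, 1, 0, 1, 3, 1, 2, 0, 1, 1, 3, 1, 0, 1, 1, 1, 3, 0, 1, 3, 3, 3, 2],
   [1, 2, 2, 1, 2, 0, 1, 2, 2, 1, 0, 1, 1, 2, 2, 0, 2, 1, 1, 2, 0, 1, 2, 1, 1, 0, 2, 1, 2, 1, 0, 1, 1, 3, 1, 3]]

/-- The action of the generators on the frames. -/
def framePermC : List (List ℕ) := [
   [0, 1, 2, 7, 4, 17, 6, 10, 8, 18, 3, 25, 26, 9, 14, 45, 16, 38, 13, 49, 50, 51, 42, 34, 30, 36, 37, 24, 15, 29, 27, 22, 54, 56, 53, 55, 11, 12, 5, 73, 20, 91, 31, 32, 68, 28, 46, 100, 48, 87, 40, 75, 35, 23, 43, 52, 85, 64, 88, 41, 74, 99, 98, 89, 90, 102, 97, 69, 80, 79, 84, 86, 39, 72, 92, 21, 47, 77, 66, 67, 44, 62, 93, 106, 96, 33, 104, 19, 105, 94, 57, 59, 60, 95,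 63, 82, 70, 78, 81, 103, 76, 101, 108, 61, 71, 58, 111, 110, 65, 107, 109, 83],
   [0, 1, 2, 10, 8, 18, 6, 3, 14, 30, 7, 11, 37, 24, 4, 15, 29, 13, 27, 22, 54, 50, 55, 44, 17, 25, 12, 5, 28, 46, 38, 35, 51, 34, 68, 87, 36, 26, 9, 72, 32, 94, 52, 21, 85, 45, 16, 47, 77, 42, 43, 40, 49, 80, 75, 19, 53, 66, 64, 89, 41, 84, 109, 74, 97, 111, 105, 61, 33, 99, 79, 65, 73, 39, 91, 20, 76, 101, 88, 103, 56, 110, 81, 86, 67, 23, 102, 31, 90, 92, 78, 63, 59, 62, 60, 98, 69, 58, 107, 96, 100, 48, 83, 70, 108, 57, 104, 95, 106, 93, 82, 71],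
   [0, 2, 6, 3, 14, 19, 1, 7, 4, 31, 10, 36, 26, 42, 8, 15, 16, 49, 22, 56, 57, 58, 53, 13, 52, 11, 37, 55, 28, 29, 35, 34, 78, 38, 9, 68, 25, 12, 87, 73, 90, 95, 23, 97, 24, 45, 46, 76, 48, 85, 64, 88, 44, 18, 66, 80, 5, 84, 99, 93, 107, 75, 104, 81, 96, 60, 67, 54, 30, 43, 40, 94, 39, 72, 110, 105, 100, 77, 79, 32, 27, 86, 83, 91, 20, 17, 63, 33, 103, 62, 70, 82, 109, 106, 98, 111, 50, 69, 71, 21, 47, 101, 74, 51, 89, 61, 59, 65, 92, 108, 102, 41],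
   [0, 1, 2, 7, 8, 20, 6, 10, 14, 32, 3, 11, 37, 43, 4, 28, 46, 50, 54, 57, 59, 60, 66, 69, 21, 25, 12, 75, 45, 16, 51, 78, 63, 70, 79, 88, 36, 26, 40, 39, 91, 17, 97, 94, 99, 15, 29, 100, 48, 64, 41, 74, 58, 67, 89, 105, 84, 93, 107, 5, 24, 108, 22, 9, 95, 44, 62, 104, 103, 71, 83, 23, 72, 73, 30, 92, 47, 77, 81, 86, 61, 31, 87, 33, 106, 96, 34, 90, 110, 18, 82, 38, 27, 19, 13, 49, 111, 98, 42, 65, 76, 101, 68, 102, 53, 109, 56, 52, 80, 55, 35, 85],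
   [0, 1, 2, 3, 4, 21, 6, 7, 8, 20, 10, 25, 26, 40, 14, 15, 29, 51, 50, 58, 60, 63, 64, 70, 32, 36, 37, 43, 28, 46, 54, 57, 59, 61, 84, 66, 11, 12, 75, 72, 92, 30, 90, 91, 79, 45, 16, 76, 101, 88, 74, 89, 78, 96, 41, 97, 99, 107, 81, 24, 9, 71, 49, 5, 110, 34, 95, 111, 67, 83, 108, 33, 73, 39, 18, 94, 100, 48, 93, 106, 69, 19, 55, 80, 65, 103, 56, 105, 62, 17, 109, 27, 13, 52, 38, 35, 102, 82, 87, 86, 47, 77, 53, 104, 85, 98, 44, 31, 23, 42, 22, 68],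
   [0, 1, 2, 4, 15, 5, 6, 8, 28, 9, 14, 39, 16, 38, 45, 3, 47, 18, 30, 42, 20, 21, 19, 44, 24, 72, 29, 13, 7, 76, 17, 55, 32, 34, 85, 31, 73, 46, 27, 48, 75, 89, 22, 40, 53, 10, 100, 12, 11, 52, 54, 50, 87, 23, 51, 35, 68, 97, 90, 59, 60, 84, 93, 63, 58, 104, 57, 69, 80, 99, 79, 65, 101, 77, 41, 43, 26, 36, 105, 96, 56, 109, 95, 86, 103, 33, 111, 49, 78, 74, 64, 92, 94, 98, 91, 107, 70, 66, 62, 67, 37, 25, 108, 61, 71, 88, 102, 82, 106, 110, 81, 83],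
   [0, 3, 7, 4, 1, 22, 10, 8, 2, 33, 14, 16, 11, 44, 6, 15, 12, 52, 53, 5, 61, 64, 19, 17, 24, 29, 25, 18, 28, 26, 38, 35, 32, 34, 9, 68, 46, 36, 87, 47, 79, 94, 42, 50, 49, 45, 37, 48, 39, 13, 96, 78, 23, 27, 75, 56, 80, 66, 21, 59, 71, 84, 92, 110, 58, 60, 67, 57, 31, 97, 51, 65, 76, 100, 102, 105, 101, 73, 70, 88, 55, 63, 86, 82, 20, 85, 83, 30, 40, 93, 90, 74, 106, 108, 98, 111, 43, 99, 41, 69, 77, 72, 91, 103, 104, 54, 62, 95, 89, 109, 81, 107],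
   [0, 4, 8, 11, 16, 19, 14, 25, 29, 34, 36, 12, 3, 23, 46, 39, 1, 49, 53, 57, 59, 65, 67, 71, 24, 26, 7, 27, 72, 2, 30, 79, 81, 82, 86, 51, 37, 10, 87, 47, 91, 96, 69, 98, 60, 73, 6, 15, 48, 64, 41, 102, 21, 104, 62, 75, 93, 5, 44, 84, 58, 61, 89, 32, 17, 52, 22, 66, 74, 97, 40, 13, 76, 100, 88, 108, 28, 77, 31, 78, 92, 63, 83, 33, 20, 95, 9, 90, 68, 54, 38, 70, 105, 106, 43, 111, 50, 42, 94, 99, 45, 101, 35, 103, 18, 80, 56, 107, 55, 109, 110, 85],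
   [0, 1, 2, 12, 16, 5, 6, 26, 29, 9, 37, 15, 39, 13, 46, 47, 48, 17, 18, 57, 21, 32, 66, 71, 24, 45, 73, 27, 76, 77, 30, 78, 20, 83, 86, 88, 28, 72, 38, 3, 75, 89, 97, 40, 65, 100, 101, 11, 4, 64, 51, 54, 58, 104, 50, 105, 106, 107, 81, 63, 59, 23, 35, 60, 110, 84, 95, 85, 102, 33, 80, 61, 10, 7, 41, 43, 36, 8, 93, 56, 108, 52, 42, 69, 44, 111, 99, 90, 62, 74, 109, 94, 91, 31, 92, 22, 68, 82, 55, 34, 25, 14, 96, 53, 103, 98, 79, 19, 70, 87, 49, 67],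
   [1, 5, 9, 13, 0, 23, 24, 27, 6, 35, 38, 40, 41, 31, 2, 30, 21, 53, 55, 10, 62, 61, 68, 4, 7, 43, 74, 8, 17, 20, 28, 80, 73, 19, 3, 87, 75, 89, 44, 54, 93, 76, 56, 77, 33, 18, 32, 92, 63, 45, 98, 103, 49, 15, 36, 52, 22, 70, 72, 26, 88, 107, 100, 71, 96, 12, 109, 67, 85, 99, 48, 57, 51, 50, 105, 84, 94, 60, 110, 69, 34, 37, 58, 86, 39, 42, 66, 14, 25, 104, 79, 29, 78, 64, 65, 90, 11, 81, 46, 95, 91, 59, 47, 82, 97, 101, 83, 108, 16, 106, 102, 111]]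

/-- Parent and generator of each frame. -/
def frameParC : List (ℕ × ℕ) := [(0, 0), (0, 9), (1, 2), (1, 6), (1, 7), (1, 9), (2, 2), (2, 6), (2, 7), (2, 9), (3, 1), (3, 7), (3, 8), (3, 9), (4, 2), (4, 5), (4, 7), (5, 0), (5, 1), (5, 2), (5, 3), (5, 4), (5, 6), (5, 9), (6, 9), (7, 7), (7, 8), (7, 9), (8, 5), (8, 7), (9, 1), (9, 2), (9, 3), (9, 6), (9, 7), (9, 9), (10, 7), (10, 8), (10, 9), (11, 5), (11, 9), (12, 9), (13, 2), (13, 3), (13, 6), (14, 5), (14, 7), (15, 8), (16, 8), (17, 2), (17, 3), (17, 4), (17, 6), (17, 9), (18, 3), (18, 9), (19, 2), (19, 3), (19, 4), (20, 3), (20, 4), (20, 6), (20, 9), (21, 4), (21, 6), (21, 7), (22, 3), (22, 7), (22, 9), (23, 3), (23, 4), (23, 7),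 (25, 5), (26, 8), (26, 9), (27, 3), (28, 8), (29, 8), (31, 3), (31, 7), (31, 9), (32, 7), (33, 7), (33, 8), (34, 4), (34, 5), (34, 7), (35, 1), (35, 3), (37, 9), (40, 2), (40, 3), (40, 4), (40, 9), (41, 1), (41, 2), (41, 7), (42, 3), (43, 7), (44, 3), (45, 8), (46, 8), (51, 7), (51, 9), (53, 7), (55, 3), (56, 8), (57, 4), (61, 3), (62, 1), (63, 6), (65, 1)]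

/-- The 112 isotropic lines: pivots and two rows. -/
def linesC : List (List ℕ) := [
   [0, 2, 1, 4, 0, 0, 0, 0, 1, 4],
   [0, 2, 1, 5, 0, 0, 0, 0, 1, 4],
   [0, 2, 1, 7, 0, 0, 0, 0, 1, 4],
   [0, 2, 1, 4, 0, 0, 0, 0, 1, 5],
   [0, 1, 1, 0, 6, 2, 0, 1, 1, 3],
   [0, 2, 1, 5, 0, 0, 0, 0, 1, 7],
   [0, 2, 1, 8, 0, 0, 0, 0, 1, 4],
   [0, 2, 1, 4, 0, 0, 0, 0, 1, 7],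
   [0, 1, 1, 0, 0, 4, 0, 1, 5, 0],
   [0, 2, 1, 5, 0, 0, 0, 0, 1, 8],
   [0, 2, 1, 4, 0, 0, 0, 0, 1, 8],
   [0, 1, 1, 0, 5, 0, 0, 1, 0, 5],
   [0, 1, 1, 0, 2, 3, 0, 1, 6, 1],
   [0, 1, 1, 0, 8, 0, 0, 1, 0, 5],
   [0, 1, 1, 0, 3, 6, 0, 1, 6, 6],
   [0, 1, 1, 0, 3, 1, 0, 1, 2, 6],
   [0, 1, 1, 0, 7, 0, 0, 1, 0, 7],
   [0, 1, 1, 0, 2, 2, 0, 1, 1, 2],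
   [0, 1, 1, 0, 6, 1, 0, 1, 2, 3],
   [0, 1, 1, 0, 3, 3, 0, 1, 3, 6],
   [0, 1, 1, 0, 6, 6, 0, 1, 3, 6],
   [0, 1, 1, 0, 5, 0, 0, 1, 0, 4],
   [0, 2, 1, 7, 0, 0, 0, 0, 1, 5],
   [0, 2, 1, 8, 0, 0, 0, 0, 1, 7],
   [0, 2, 1, 5, 0, 0, 0, 0, 1, 5],
   [0, 1, 1, 0, 1, 3, 0, 1, 1, 6],
   [0, 1, 1, 0, 0, 7, 0, 1, 4, 0],
   [0, 1, 1, 0, 1, 1, 0, 1, 2, 1],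
   [0, 1, 1, 0, 0, 8, 0, 1, 7, 0],
   [0, 1, 1, 0, 3, 3, 0, 1, 1, 2],
   [0, 1, 1, 0, 4, 0, 0, 1, 0, 7],
   [0, 1, 1, 0, 2, 6, 0, 1, 6, 2],
   [0, 1, 1, 0, 1, 3, 0, 1, 6, 2],
   [0, 2, 1, 8, 0, 0, 0, 0, 1, 5],
   [0, 1, 1, 0, 0, 7, 0, 1, 8, 0],
   [0, 2, 1, 7, 0, 0, 0, 0, 1, 7],
   [0, 1, 1, 0, 6, 6, 0, 1, 2, 1],
   [0, 1, 1, 0, 1, 2, 0, 1, 2, 2],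
   [0, 1, 1, 0, 3, 2, 0, 1, 1, 6],
   [0, 1, 1, 0, 1, 6, 0, 1, 3, 2],
   [0, 1, 1, 0, 3, 6, 0, 1, 2, 2],
   [0, 1, 1, 0, 6, 3, 0, 1, 1, 1],
   [0, 1, 1, 0, 6, 6, 0, 1, 6, 3],
   [0, 1, 1, 0, 6, 2, 0, 1, 6, 1],
   [0, 1, 1, 0, 1, 2, 0, 1, 1, 1],
   [0, 1, 1, 0, 6, 3, 0, 1, 3, 3],
   [0, 1, 1, 0, 2, 6, 0, 1, 2, 3],
   [0, 1, 1, 0, 8, 0, 0, 1, 0, 8],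
   [0, 1, 1, 0, 4, 0, 0, 1, 0, 4],
   [0, 2, 1, 7, 0, 0, 0, 0, 1, 8],
   [0, 1, 1, 0, 0, 7, 0, 1, 7, 0],
   [0, 1, 1, 0, 2, 3, 0, 1, 2, 6],
   [0, 1, 1, 0, 7, 0, 0, 1, 0, 4],
   [0, 1, 1, 0, 2, 1, 0, 1, 2, 2],
   [0, 1, 1, 0, 1, 2, 0, 1, 3, 3],
   [0, 1, 1, 0, 1, 3, 0, 1, 3, 1],
   [0, 1, 1, 0, 2, 3, 0, 1, 3, 2],
   [0, 1, 1, 0, 2, 1, 0, 1, 3, 3],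
   [0, 1, 1, 0, 0, 5, 0, 1, 7, 0],
   [0, 1, 1, 0, 2, 6, 0, 1, 3, 1],
   [0, 1, 1, 0, 3, 3, 0, 1, 6, 3],
   [0, 1, 1, 0, 3, 6, 0, 1, 3, 3],
   [0, 1, 1, 0, 6, 1, 0, 1, 1, 6],
   [0, 1, 1, 0, 7, 0, 0, 1, 0, 8],
   [0, 1, 1, 0, 8, 0, 0, 1, 0, 7],
   [0, 1, 1, 0, 8, 0, 0, 1, 0, 4],
   [0, 1, 1, 0, 1, 1, 0, 1, 1, 2],
   [0, 1, 1, 0, 6, 1, 0, 1, 3, 1],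
   [0, 1, 1, 0, 1, 6, 0, 1, 6, 1],
   [0, 1, 1, 0, 0, 4, 0, 1, 7, 0],
   [0, 1, 1, 0, 6, 2, 0, 1, 2, 6],
   [0, 1, 1, 0, 6, 3, 0, 1, 6, 6],
   [0, 1, 1, 0, 2, 1, 0, 1, 1, 1],
   [0, 1, 1, 0, 0, 5, 0, 1, 8, 0],
   [0, 1, 1, 0, 0, 8, 0, 1, 8, 0],
   [0, 1, 1, 0, 0, 4, 0, 1, 4, 0],
   [0, 1, 1, 0, 1, 1, 0, 1, 6, 3],
   [0, 1, 1, 0, 2, 2, 0, 1, 3, 6],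
   [0, 1, 1, 0, 1, 6, 0, 1, 2, 6],
   [0, 1, 1, 0, 3, 3, 0, 1, 2, 1],
   [0, 2, 1, 8, 0, 0, 0, 0, 1, 8],
   [0, 1, 1, 0, 0, 8, 0, 1, 4, 0],
   [0, 1, 1, 0, 1, 2, 0, 1, 6, 6],
   [0, 1, 1, 0, 0, 8, 0, 1, 5, 0],
   [0, 1, 1, 0, 7, 0, 0, 1, 0, 5],
   [0, 1, 1, 0, 0, 5, 0, 1, 4, 0],
   [0, 1, 1, 0, 3, 2, 0, 1, 6, 2],
   [0, 1, 1, 0, 5, 0, 0, 1, 0, 8],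
   [0, 1, 1, 0, 3, 2, 0, 1, 2, 3],
   [0, 1, 1, 0, 3, 1, 0, 1, 3, 2],
   [0, 1, 1, 0, 0, 4, 0, 1, 8, 0],
   [0, 1, 1, 0, 1, 6, 0, 1, 1, 3],
   [0, 1, 1, 0, 2, 1, 0, 1, 6, 6],
   [0, 1, 1, 0, 3, 1, 0, 1, 6, 1],
   [0, 1, 1, 0, 0, 5, 0, 1, 5, 0],
   [0, 1, 1, 0, 2, 2, 0, 1, 2, 1],
   [0, 1, 1, 0, 2, 2, 0, 1, 6, 3],
   [0, 1, 1, 0, 3, 6, 0, 1, 1, 1],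
   [0, 1, 1, 0, 2, 3, 0, 1, 1, 3],
   [0, 1, 1, 0, 2, 6, 0, 1, 1, 6],
   [0, 1, 1, 0, 3, 2, 0, 1, 3, 1],
   [0, 1, 1, 0, 6, 1, 0, 1, 6, 2],
   [0, 1, 1, 0, 6, 6, 0, 1, 1, 2],
   [0, 1, 1, 0, 4, 0, 0, 1, 0, 8],
   [0, 1, 1, 0, 5, 0, 0, 1, 0, 7],
   [0, 1, 1, 0, 6, 2, 0, 1, 3, 2],
   [0, 1, 1, 0, 1, 1, 0, 1, 3, 6],
   [0, 1, 1, 0, 6, 3, 0, 1, 2, 2],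
   [0, 1, 1, 0, 3, 1, 0, 1, 1, 3],
   [0, 1, 1, 0, 0, 7, 0, 1, 5, 0],
   [0, 1, 1, 0, 4, 0, 0, 1, 0, 5],
   [0, 1, 1, 0, 1, 3, 0, 1, 2, 3]]

/-- The unitary matrices of degree four of the generators. -/
def fourC : List (List (List ℕ)) := [
   [[1, 0, 3, 4], [0, 1, 5, 6], [3, 4, 7, 8], [5, 6, 7, 4]],
   [[1, 0, 3, 4], [0, 1, 5, 6], [3, 4, 4, 4], [5, 6, 5, 7]],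
   [[7, 8, 6, 8], [7, 4, 7, 3], [6, 8, 1, 0], [7, 3, 0, 1]],
   [[1, 0, 1, 7], [0, 1, 4, 2], [2, 5, 7, 8], [8, 1, 7, 4]],
   [[1, 0, 1, 7], [0, 1, 4, 2], [2, 5, 1, 0], [8, 1, 0, 1]],
   [[1, 0, 4, 2], [0, 1, 1, 7], [5, 2, 1, 0], [1, 8, 0, 1]],
   [[7, 1, 1, 0], [2, 4, 0, 1], [2, 0, 4, 2], [0, 2, 1, 7]],
   [[4, 1, 4, 7], [2, 1, 5, 0], [5, 4, 7, 2], [8, 0, 1, 1]],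
   [[1, 0, 5, 6], [0, 1, 3, 4], [4, 3, 1, 0], [6, 5, 0, 1]],
   [[3, 7, 0, 6], [8, 6, 6, 0], [5, 4, 7, 3], [5, 8, 3, 4]]]

/-- Their orders. -/
def fourOrdC : List ℕ := [3, 3, 3, 3, 3, 3, 3, 3, 3, 5]

/-- Word `36 a + 6 b + c` gives the three-cycle of `a b c` in the four consecutive ones. -/
def cycleWordsC : List (List ℕ) := [[],
   [],
   [],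
   [],
   [],
   [],
   [],
   [],
   [0, 0],
   [1, 0, 0],
   [1, 2, 2, 0, 0],
   [1, 3, 2, 2, 0, 0],
   [],
   [0],
   [],
   [1, 1, 0],
   [2, 1, 1, 0],
   [2, 3, 3, 1, 1, 0],
   [],
   [0, 1, 1],
   [0, 0, 1],
   [],
   [0, 2, 2, 0, 0],
   [0, 3, 2, 2, 0, 0],
   [],
   [0, 2, 1, 1],
   [0, 2, 0, 1],
   [0, 2, 0, 0],
   [],
   [0, 3, 3, 2, 0, 0],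
   [],
   [0, 2, 3, 3, 1, 1],
   [0, 0, 1, 3, 2, 2],
   [0, 2, 0, 0, 3, 3],
   [0, 2, 2, 0, 0, 3],
   [],
   [],
   [],
   [0],
   [0, 1, 1],
   [0, 2, 1, 1],
   [0, 2, 3, 3, 1, 1],
   [],
   [],
   [],
   [],
   [],
   [],
   [0, 0],
   [],
   [],
   [1, 1],
   [2, 1, 1],
   [2, 3, 3, 1, 1],
   [1, 0, 0],
   [],
   [1],
   [],
   [2, 2, 1],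
   [3, 2, 2, 1],
   [1, 2, 2, 0, 0],
   [],
   [1, 2, 2],
   [1, 1, 2],
   [],
   [1, 3, 3, 1, 1],
   [1, 3, 2, 2, 0, 0],
   [],
   [1, 3, 2, 2],
   [1, 3, 1, 2],
   [1, 3, 1, 1],
   [],
   [],
   [0, 0],
   [],
   [0, 0, 1],
   [0, 2, 0, 1],
   [0, 0, 1, 3, 2, 2],
   [0],
   [],
   [],
   [1],
   [1, 2, 2],
   [1, 3, 2, 2],
   [],
   [],
   [],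
   [],
   [],
   [],
   [1, 1, 0],
   [1, 1],
   [],
   [],
   [2, 2],
   [3, 2, 2],
   [2, 1, 1, 0],
   [2, 1, 1],
   [],
   [2],
   [],
   [3, 3, 2],
   [2, 3, 3, 1, 1, 0],
   [2, 3, 3, 1, 1],
   [],
   [2, 3, 3],
   [2, 2, 3],
   [],
   [],
   [1, 0, 0],
   [1, 1, 0],
   [],
   [0, 2, 0, 0],
   [0, 2, 0, 0, 3, 3],
   [0, 1, 1],
   [],
   [1, 1],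
   [],
   [1, 1, 2],
   [1, 3, 1, 2],
   [0, 0, 1],
   [1],
   [],
   [],
   [2],
   [2, 3, 3],
   [],
   [],
   [],
   [],
   [],
   [],
   [0, 2, 2, 0, 0],
   [2, 2, 1],
   [2, 2],
   [],
   [],
   [3, 3],
   [0, 3, 2, 2, 0, 0],
   [3, 2, 2, 1],
   [3, 2, 2],
   [],
   [3],
   [],
   [],
   [1, 2, 2, 0, 0],
   [2, 1, 1, 0],
   [0, 2, 2, 0, 0],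
   [],
   [0, 2, 2, 0, 0, 3],
   [0, 2, 1, 1],
   [],
   [2, 1, 1],
   [2, 2, 1],
   [],
   [1, 3, 1, 1],
   [0, 2, 0, 1],
   [1, 2, 2],
   [],
   [2, 2],
   [],
   [2, 2, 3],
   [0, 2, 0, 0],
   [1, 1, 2],
   [2],
   [],
   [],
   [3],
   [],
   [],
   [],
   [],
   [],
   [],
   [0, 3, 3, 2, 0, 0],
   [1, 3, 3, 1, 1],
   [3, 3, 2],
   [3, 3],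
   [],
   [],
   [],
   [1, 3, 2, 2, 0, 0],
   [2, 3, 3, 1, 1, 0],
   [0, 3, 2, 2, 0, 0],
   [0, 3, 3, 2, 0, 0],
   [],
   [0, 2, 3, 3, 1, 1],
   [],
   [2, 3, 3, 1, 1],
   [3, 2, 2, 1],
   [1, 3, 3, 1, 1],
   [],
   [0, 0, 1, 3, 2, 2],
   [1, 3, 2, 2],
   [],
   [3, 2, 2],
   [3, 3, 2],
   [],
   [0, 2, 0, 0, 3, 3],
   [1, 3, 1, 2],
   [2, 3, 3],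
   [],
   [3, 3],
   [],
   [0, 2, 2, 0, 0, 3],
   [1, 3, 1, 1],
   [2, 2, 3],
   [3],
   [],
   [],
   [],
   [],
   [],
   [],
   [],
   []]

end CfsgLib.SixTwo
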