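import Cfsg.Agent.SixTwo.Mono
import Cfsg.Agent.SixTwo.Data

/-!
The members preserving the decomposition `3 ⊥ 3` are, modulo monomial matrices, sixteen block matrices.
-/

set_option autoImplicit false
set_option maxRecDepth 100000

namespace CfsgLib.SixTwo

open Matrix

local notation "V6" => Fin 6 → ZMod 3

/-- The code of a monomial matrix. -/
def monoC (v : V6) (π : Equiv.Perm (Fin 6)) : List ℕ :=
  tab fun i j => if (π (Fin.ofNat 6 j)).val = i then cubeC (v (Fin.ofNat 6 i)) else 0

/-- Entry of a coded `3 × 3` matrix. -/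
def ent3 (A : List ℕ) (a b : ℕ) : ℕ := A.getD (3 * a + b) 0 % 4

/-- The determinant of a coded `3 × 3` matrix is one. -/
def det3B (A : List ℕ) : Bool :=
  addC (addC (addC (mulC (mulC (ent3 A 0 0) (ent3 A 1 1)) (ent3 A 2 2))
    (mulC (mulC (ent3 A 0 0) (ent3 A 1 2)) (ent3 A 2 1)))
    (addC (mulC (mulC (ent3 A 0 1) (ent3 A 1 0)) (ent3 A 2 2))
      (mulC (mulC (ent3 A 0 1) (ent3 A 1 2)) (ent3 A 2 0))))
    (addC (mulC (mulC (ent3 A 0 2) (ent3 A 1 0)) (ent3 A 2 1))
      (mulC (mulC (ent3 A 0 2) (ent3 A 1 1)) (ent3 A 2 0))) == 1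

/-- Two coded `3 × 3` matrices side by side. -/
def blockC (A B : List ℕ) : List ℕ :=
  tab fun i j => if i < 3 then (if j < 3 then ent3 A i j else 0) else if j < 3 then 0 else ent3 B (i - 3) (j - 3)

/-- The inner product of coded vectors of length three. -/
def herm3C (u v : List ℕ) : ℕ :=
  addC (addC (mulC (conjC (u.getD 0 0)) (v.getD 0 0)) (mulC (conjC (u.getD 1 0)) (v.getD 1 0)))
    (mulC (conjC (u.getD 2 0)) (v.getD 2 0))

/-- The coded vectors of length three and norm one. -/
def unit3 : List (List ℕ) :=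
  ((List.range 64).map fun n => [n % 4, n / 4 % 4, n / 16 % 4]).filter fun u => herm3C u u == 1

/-- The six permutations of three points. -/
def perms3 : List (List ℕ) := [[0, 1, 2], [0, 2, 1], [1, 0, 2], [1, 2, 0], [2, 0, 1], [2, 1, 0]]

/-- A column of a coded `3 × 3` matrix. -/
def colC (R : List ℕ) (a : ℕ) : List ℕ := [ent3 R 0 a, ent3 R 1 a, ent3 R 2 a]

/-- `R* [u v x]` is monomial along `p`. -/
def monoB (R : List ℕ) (cols : List (List ℕ)) (p : List ℕ) : Bool :=
  (List.range 3).all fun a => (List.range 3).all fun b =>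
    herm3C (colC R a) (cols.getD b []) == 0 || a == p.getD b 0

/-- Every orthonormal triple is a representative times a monomial matrix. -/
def tripleB : Bool :=
  unit3.all fun u => unit3.all fun v => herm3C u v != 0 || unit3.all fun x =>
    herm3C u x != 0 || herm3C v x != 0 ||
      (List.range 4).any fun r => perms3.any fun p => monoB (repsC.getD r []) [u, v, x] p

theorem tripleB_eq : tripleB = true := by decide +kernel

theorem blocks_ok : ((List.range 4).all fun i => det3B (repsC.getD i []) && (List.range 4).all fun j =>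
    blocksC.getD (4 * i + j) [] == blockC (repsC.getD i []) (repsC.getD j []) &&
      unitaryB (blocksC.getD (4 * i + j) [])) = true := by decide +kernel

variable {F : Type*} [Field F] [Fintype F] (ω : Omega F)

theorem Omega.mat_monoC (v : V6) (π : Equiv.Perm (Fin 6)) : ω.mat (monoC v π) = ω.monoMat v π := by
  rw [monoC, ω.mat_tab]
  ext i j
  simp only [Matrix.of_apply, Omega.monoMat, Fin.val_inj,
    show ∀ k : Fin 6, Fin.ofNat 6 k.val = k from fun k => Fin.ext (Nat.mod_eq_of_lt k.2)]
  by_cases h : π j = i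
  · rw [if_pos h, if_pos h, ω.val_cubeC]
  · rw [if_neg h, if_neg h, ω.val_zero]

theorem Omega.val_ent3 (A : List ℕ) (a b : ℕ) : ω.val (ent3 A a b) = ω.val (A.getD (3 * a + b) 0) :=
  ω.val_mod _

theorem Omega.det_block {A B : List ℕ} (hA : det3B A = true) (hB : det3B B = true) :
    (ω.mat (blockC A B)).det = 1 := by
  haveI := ω.charP
  have key : ∀ A : List ℕ, det3B A = true →
      (Matrix.of fun a b : Fin 3 => ω.val (ent3 A a b)).det = 1 := by
    intro A hA
    have := congrArg ω.val (beq_iff_eq.1 hA)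
    simp only [ω.val_add, ω.val_mul, ω.val_one] at this
    rw [Matrix.det_fin_three]
    simp only [Matrix.of_apply, Fin.val_zero, Fin.val_one, Fin.val_two, CharTwo.sub_eq_add]
    linear_combination this
  have e : ω.mat (blockC A B) = Matrix.reindex finSumFinEquiv finSumFinEquiv
      (Matrix.fromBlocks (Matrix.of fun a b : Fin 3 => ω.val (ent3 A a b)) 0 0
        (Matrix.of fun a b : Fin 3 => ω.val (ent3 B a b))) := by
    rw [blockC, ω.mat_tab]
    ext i j
    fin_cases i <;> fin_cases j <;> rfl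
  rw [e, Matrix.det_reindex_self, Matrix.det_fromBlocks_zero₂₁, key A hA, key B hB, one_mul]

/-- The block candidate `(i, j)`. -/
def Omega.blockElt (i j : Fin 4) : Cfsg.SU 6 F 2 :=
  ω.elt (blockC (repsC.getD i []) (repsC.getD j []))
    (by
      have h := blocks_ok
      simp only [List.all_eq_true, List.mem_range, Bool.and_eq_true, beq_iff_eq] at h
      obtain ⟨e, hu⟩ := (h i i.2).2 j j.2
      rwa [e] at hu)
    (ω.det_block (by
      have h := blocks_ok
      simp only [List.all_eq_true, List.mem_range, Bool.and_eq_true] at h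
      exact (h i i.2).1) (by
      have h := blocks_ok
      simp only [List.all_eq_true, List.mem_range, Bool.and_eq_true] at h
      exact (h j j.2).1))

theorem Omega.mat_blockElt (i j : Fin 4) : matOf (ω.blockElt i j) = ω.mat (blocksC.getD (4 * i + j) []) := by
  have h := blocks_ok
  simp only [List.all_eq_true, List.mem_range, Bool.and_eq_true, beq_iff_eq] at h
  rw [((h i i.2).2 j j.2).1]; rfl

include ω in
theorem Omega.unitary_of_mem (g : Cfsg.SU 6 F 2) : (matOf g)ᵀ.map (· ^ 2) * matOf g = 1 := by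
  haveI := ω.charP
  haveI : Fact (Nat.Prime 2) := ⟨Nat.prime_two⟩
  ext i k
  have h := g.2 (Pi.single k 1) (Pi.single i 1)
  change Cfsg.hermForm 6 F 2 (matOf g *ᵥ Pi.single k 1) (matOf g *ᵥ Pi.single i 1) = _ at h
  rw [Matrix.mulVec_single_one, Matrix.mulVec_single_one] at h
  simp only [Cfsg.hermForm, Matrix.col_apply] at h
  rw [Matrix.mul_apply, Matrix.one_apply]
  simp only [Matrix.map_apply, Matrix.transpose_apply]
  rw [Finset.sum_congr rfl fun x _ => mul_comm _ _, h]
  by_cases hik : i = k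
  · subst hik; simp [Pi.single_apply]
  · simp [hik, Pi.single_apply, Ne.symm hik]

/-- A coded column of a half. -/
def halfCol (c : Fin 6 → Fin 6 → ℕ) (s : Fin 2) (b : Fin 3) : List ℕ :=
  (List.finRange 3).map fun a => c ⟨3 * s.val + a.val, by omega⟩ ⟨3 * s.val + b.val, by omega⟩

include ω in
/-- A member preserving the decomposition is a block candidate times a monomial member. -/
theorem Omega.block_decomp {h : Cfsg.SU 6 F 2}
    (hz : ∀ i j : Fin 6, decide (i.val < 3) ≠ decide (j.val < 3) → matOf h i j = 0) :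
    ∃ a b : Fin 4, (ω.blockElt a b)⁻¹ * h ∈ ω.monoFull := by
  classical
  choose c hc4 hc using fun i j => ω.val_surjective (matOf h i j)
  have hc0 : ∀ i j, decide (i.val < 3) ≠ decide (j.val < 3) → c i j = 0 := fun i j hij =>
    ω.val_inj (hc4 i j) (by norm_num) ((hc i j).trans ((hz i j hij).trans ω.val_zero.symm))
  have hU := ω.unitary_of_mem h
  have hherm : ∀ (s : Fin 2) (b b' : Fin 3), herm3C (halfCol c s b) (halfCol c s b') = if b = b' then 1 else 0 := by
    intro s b b'
    refine ω.val_inj (lt_of_lt_of_le (?_ : _ < 4) le_rfl) (by split <;> norm_num) ?_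
    · exact (by decide +kernel : ∀ x < 16, ([0, 1, 2, 3, 1, 0, 3, 2, 2, 3, 0, 1, 3, 2, 1, 0] : List ℕ).getD x 0 < 4)
        _ (by omega)
    have e := congrFun (congrFun hU ⟨3 * s.val + b.val, by omega⟩) ⟨3 * s.val + b'.val, by omega⟩
    rw [Matrix.mul_apply, Fin.sum_univ_six, Matrix.one_apply] at e
    simp only [Matrix.map_apply, Matrix.transpose_apply, ← hc] at e
    fin_cases s <;> fin_cases b <;> fin_cases b' <;>
      simp (config := { decide := true }) [herm3C, halfCol, List.finRange, ω.val_add, ω.val_mul, ω.val_conj,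
        ω.val_zero, ω.val_one, hc0, Fin.ext_iff] at e ⊢ <;>
      linear_combination e
  have hmem : ∀ (s : Fin 2) (b : Fin 3), halfCol c s b ∈ unit3 := by
    intro s b
    refine List.mem_filter.2 ⟨?_, by simpa using hherm s b b⟩
    have hl : halfCol c s b = [c ⟨3 * s.val, by omega⟩ ⟨3 * s.val + b.val, by omega⟩,
        c ⟨3 * s.val + 1, by omega⟩ ⟨3 * s.val + b.val, by omega⟩,
        c ⟨3 * s.val + 2, by omega⟩ ⟨3 * s.val + b.val, by omega⟩] := by
      simp [halfCol, List.finRange]
    have h0 := hc4 ⟨3 * s.val, by omega⟩ ⟨3 * s.val + b.val, by omega⟩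
    have h1 := hc4 ⟨3 * s.val + 1, by omega⟩ ⟨3 * s.val + b.val, by omega⟩
    have h2 := hc4 ⟨3 * s.val + 2, by omega⟩ ⟨3 * s.val + b.val, by omega⟩
    rw [hl]
    generalize c ⟨3 * s.val, by omega⟩ ⟨3 * s.val + b.val, by omega⟩ = x at h0 ⊢
    generalize c ⟨3 * s.val + 1, by omega⟩ ⟨3 * s.val + b.val, by omega⟩ = y at h1 ⊢
    generalize c ⟨3 * s.val + 2, by omega⟩ ⟨3 * s.val + b.val, by omega⟩ = z at h2 ⊢
    exact List.mem_map.2 ⟨x + 4 * y + 16 * z, List.mem_range.2 (by omega), by
      rw [show (x + 4 * y + 16 * z) % 4 = x by omega, show (x + 4 * y + 16 * z) / 4 % 4 = y by omega,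
        show (x + 4 * y + 16 * z) / 16 % 4 = z by omega]⟩
  have hhalf : ∀ s : Fin 2, ∃ r : Fin 4, ∃ σ : Fin 3 → Fin 3, ∀ a b : Fin 3,
      herm3C (colC (repsC.getD r []) a) (halfCol c s b) ≠ 0 → a = σ b := by
    intro s
    have h0 := tripleB_eq
    simp only [tripleB, List.all_eq_true, Bool.or_eq_true, bne_iff_ne, List.any_eq_true, List.mem_range] at h0
    have hh := (h0 _ (hmem s 0) _ (hmem s 1)).resolve_left (by simp [hherm])
    obtain ⟨r, hr, p, hp, hm⟩ :=
      (hh _ (hmem s 2)).resolve_left (by simp [hherm])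
    simp only [monoB, List.all_eq_true, List.mem_range, Bool.or_eq_true, beq_iff_eq] at hm
    have hp3 : ∀ b < 3, p.getD b 0 < 3 :=
      (by decide +kernel : ∀ p ∈ perms3, ∀ b < 3, p.getD b 0 < 3) p hp
    refine ⟨⟨r, hr⟩, fun b => ⟨p.getD b 0, hp3 b b.2⟩, fun a b hne => Fin.ext ?_⟩
    refine (hm a a.2 b b.2).resolve_left ?_
    rw [show [halfCol c s 0, halfCol c s 1, halfCol c s 2].getD b [] = halfCol c s b by fin_cases b <;> rfl]
    exact hne
  obtain ⟨r0, σ0, hσ0⟩ := hhalf 0
  obtain ⟨r1, σ1, hσ1⟩ := hhalf 1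
  refine ⟨r0, r1, ?_⟩
  set B := blockC (repsC.getD r0 []) (repsC.getD r1 []) with hB
  have hmB : matOf (ω.blockElt r0 r1) = ω.mat B := rfl
  have hinv : matOf (ω.blockElt r0 r1)⁻¹ = ω.mat (starM B) := by
    rw [ω.mat_star]
    have h1 := ω.unitary_of_mem (ω.blockElt r0 r1)
    rw [hmB] at h1
    have h2 : matOf (ω.blockElt r0 r1)⁻¹ * matOf (ω.blockElt r0 r1) = 1 := by
      rw [← matOf_mul, inv_mul_cancel, matOf_one]
    rw [hmB] at h2
    exact (left_inv_eq_right_inv h2 (mul_eq_one_comm.1 h2)).trans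
      (left_inv_eq_right_inv h1 (mul_eq_one_comm.1 h2)).symm
  let τ : Fin 6 → Fin 6 := fun j => if hj : j.val < 3 then ⟨(σ0 ⟨j, hj⟩).val, by omega⟩
    else ⟨(σ1 ⟨j.val - 3, by omega⟩).val + 3, by omega⟩
  have hsupp : ∀ i j, matOf ((ω.blockElt r0 r1)⁻¹ * h) i j ≠ 0 → τ j = i := by
    intro i j hne
    rw [matOf_mul, hinv, starM, ω.mat_tab, Matrix.mul_apply, Fin.sum_univ_six] at hne
    simp only [Matrix.of_apply, ← hc, hB, blockC, ent_tab _ _ (Fin.is_lt _)] at hne
    by_contra hij
    apply hne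
    have hv0 : ∀ a b : Fin 3, a ≠ σ0 b → ω.val (herm3C (colC (repsC.getD r0 []) a) (halfCol c 0 b)) = 0 :=
      fun a b hab => by
        have : herm3C (colC (repsC.getD r0 []) a) (halfCol c 0 b) = 0 := of_not_not fun e => hab (hσ0 a b e)
        rw [this, ω.val_zero]
    have hv1 : ∀ a b : Fin 3, a ≠ σ1 b → ω.val (herm3C (colC (repsC.getD r1 []) a) (halfCol c 1 b)) = 0 :=
      fun a b hab => by
        have : herm3C (colC (repsC.getD r1 []) a) (halfCol c 1 b) = 0 := of_not_not fun e => hab (hσ1 a b e)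
        rw [this, ω.val_zero]
    have hi := i.2
    have hj := j.2
    by_cases hi3 : i.val < 3 <;> by_cases hj3 : j.val < 3
    · have hne' : (⟨i, hi3⟩ : Fin 3) ≠ σ0 ⟨j, hj3⟩ := fun e => hij (by
        apply Fin.ext; simp [τ, hj3, ← e])
      have := hv0 _ _ hne'
      obtain ⟨a, ha⟩ := i
      obtain ⟨b, hb⟩ := j
      interval_cases a <;> interval_cases b <;>
        simp (config := { decide := true }) [herm3C, colC, halfCol, List.finRange, ω.val_add, ω.val_mul,
          ω.val_conj, ω.val_zero, ent_tab, ω.val_mod, hc0] at this ⊢ <;>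
        linear_combination this
    · obtain ⟨a, ha⟩ := i
      obtain ⟨b, hb⟩ := j
      interval_cases a <;> interval_cases b <;>
        simp (config := { decide := true }) [ω.val_mul, ω.val_conj, ω.val_zero, ent_tab, hc0] at *
    · obtain ⟨a, ha⟩ := i
      obtain ⟨b, hb⟩ := j
      interval_cases a <;> interval_cases b <;>
        simp (config := { decide := true }) [ω.val_mul, ω.val_conj, ω.val_zero, ent_tab, hc0] at *
    · have hne' : (⟨i.val - 3, by omega⟩ : Fin 3) ≠ σ1 ⟨j.val - 3, by omega⟩ := fun e => hij (by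
        apply Fin.ext; simp [τ, hj3, ← e]; omega)
      have := hv1 _ _ hne'
      obtain ⟨a, ha⟩ := i
      obtain ⟨b, hb⟩ := j
      interval_cases a <;> interval_cases b <;>
        simp (config := { decide := true }) [herm3C, colC, halfCol, List.finRange, ω.val_add, ω.val_mul,
          ω.val_conj, ω.val_zero, ent_tab, ω.val_mod, hc0] at this ⊢ <;>
        linear_combination this
  have hcol : Function.Surjective τ := by
    intro i
    by_contra hcon
    push Not at hcon
    have h0 := Matrix.det_eq_zero_of_row_eq_zero (A := matOf ((ω.blockElt r0 r1)⁻¹ * h)) i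
      fun j => of_not_not fun e => hcon j (hsupp i j e)
    rw [(((ω.blockElt r0 r1)⁻¹ * h : Cfsg.SU 6 F 2) : Matrix.SpecialLinearGroup (Fin 6) F).2] at h0
    exact one_ne_zero h0
  let π : Equiv.Perm (Fin 6) := Equiv.ofBijective τ ⟨Finite.injective_iff_surjective.2 hcol, hcol⟩
  obtain ⟨v, hv⟩ := ω.mono_of_support π hsupp
  exact ⟨v, π, trivial, hv⟩

end CfsgLib.SixTwo
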