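import Cfsg.Agent.SixTwo.ChecksDefs

/-!
Finite checks for the three classes of `3.U4(3)` in `SU (6, 2)` (compat, part 4).
-/

set_option autoImplicit false
set_option maxRecDepth 100000

namespace CfsgLib.SixTwo

open CfsgLib.UThree CfsgLib.UFourThree

theorem compat_part4 : ((List.range' 8 2).all compatC) = true := by decide +kernel

end CfsgLib.SixTwo
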