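import Cfsg.Agent.SixTwo.ChecksCompat0
import Cfsg.Agent.SixTwo.ChecksCompat1
import Cfsg.Agent.SixTwo.ChecksCompat2
import Cfsg.Agent.SixTwo.ChecksCompat3
import Cfsg.Agent.SixTwo.ChecksCompat4

/-!
Finite checks for the three classes of `3.U4(3)` in `SU (6, 2)` (compat).
-/

set_option autoImplicit false
set_option maxRecDepth 100000

namespace CfsgLib.SixTwo

open CfsgLib.UThree CfsgLib.UFourThree

theorem compat_ok : ((List.range 10).all compatC) = true := by
  have h : List.range 10 = List.range' 0 2 ++ List.range' 2 2 ++ List.range' 4 2 ++ List.range' 6 2 ++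
      List.range' 8 2 := rfl
  simp only [h, List.all_append, compat_part0, compat_part1, compat_part2, compat_part3, compat_part4,
    Bool.and_self]

end CfsgLib.SixTwo
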