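import Cfsg.Agent.SixTwo.ChecksDefs

/-!
Finite checks for the three classes of `3.U4(3)` in `SU (6, 2)` (decomp).
-/

set_option autoImplicit false
set_option maxRecDepth 100000

namespace CfsgLib.SixTwo

open CfsgLib.UThree CfsgLib.UFourThree

theorem diag_decomp : ∀ v : Fin 6 → ZMod 3, ∑ i, v i = 0 →
    v = (v 0).val • diagGen 0 + (v 0 + v 1).val • diagGen 1 + (v 0 + v 1 + v 2).val • diagGen 2 +
      (v 0 + v 1 + v 2 + v 3).val • diagGen 3 + (v 0 + v 1 + v 2 + v 3 + v 4).val • diagGen 4 := by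
  decide +kernel

end CfsgLib.SixTwo
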