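import Cfsg.Agent.SixTwo.ChecksDefs

/-!
Finite checks for the three classes of `3.U4(3)` in `SU (6, 2)` (diag).
-/

set_option autoImplicit false
set_option maxRecDepth 100000

namespace CfsgLib.SixTwo

open CfsgLib.UThree CfsgLib.UFourThree

theorem frames_diag : ∀ v : Fin 6 → ZMod 3, (∃ i, v i ≠ v 0) → ∃ a ∈ sepFrames, ∃ k : Fin 6, ∀ l : Fin 6,
    propC (scaleC v (fvecC a k)) (fvecC a l) = false := by
  decide +kernel

end CfsgLib.SixTwo
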