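import Cfsg.Agent.SixTwo.ChecksDefs

/-!
Finite checks for the three classes of `3.U4(3)` in `SU (6, 2)` (distinct).
-/

set_option autoImplicit false
set_option maxRecDepth 100000

namespace CfsgLib.SixTwo

open CfsgLib.UThree CfsgLib.UFourThree

theorem frames_distinct : ((List.range 112).all fun a => (List.range 112).all fun b => a == b ||
    (List.range 6).any fun k => (List.range 6).all fun l => !propC (fvecC a k) (fvecC b l)) = true := by
  decide +kernel

end CfsgLib.SixTwo
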