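import Cfsg.Agent.SixTwo.ChecksDefs

/-!
Finite checks for the three classes of `3.U4(3)` in `SU (6, 2)` (words).
-/

set_option autoImplicit false
set_option maxRecDepth 100000

namespace CfsgLib.SixTwo

open CfsgLib.UThree CfsgLib.UFourThree

theorem cycle_words : ∀ a b c : Fin 6, a ≠ b → a ≠ c → b ≠ c → ∀ i : Fin 6,
    ((cycleWordsC.getD (36 * a.val + 6 * b.val + c.val) []).map cycGen).prod i =
      (Equiv.swap a b * Equiv.swap a c : Equiv.Perm (Fin 6)) i := by decide +kernel

end CfsgLib.SixTwo
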