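import Cfsg.Agent.SixTwo.ChecksGens
import Cfsg.Agent.SixTwo.ChecksWords
import Cfsg.Agent.SixTwo.ChecksDecomp
import Cfsg.Agent.SixTwo.ChecksCompat
import Cfsg.Agent.SixTwo.ChecksDistinct
import Cfsg.Agent.SixTwo.ChecksLines
import Cfsg.Agent.SixTwo.ChecksPerm
import Cfsg.Agent.SixTwo.ChecksDiag

/-!
Finite checks for the three classes of `3.U4(3)` in `SU (6, 2)`, in separate files.
-/
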