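import Cfsg.Agent.SixTwo.Block
import Cfsg.Agent.UFourThree.Seven

/-!
Definitions for the finite checks on the three classes of `3.U4(3)` in `SU (6, 2)`.
-/

set_option autoImplicit false
set_option maxRecDepth 100000

namespace CfsgLib.SixTwo

open CfsgLib.UThree CfsgLib.UFourThree

/-- Exponents of the five diagonal generators. -/
def diagGen (k : ℕ) : Fin 6 → ZMod 3 := fun i => if i.val = k then 1 else if i.val = k + 1 then 2 else 0

/-- The four consecutive three-cycles. -/
def cycGen : ℕ → Equiv.Perm (Fin 6)
  | 0 => Equiv.swap 0 1 * Equiv.swap 1 2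
  | 1 => Equiv.swap 1 2 * Equiv.swap 2 3
  | 2 => Equiv.swap 2 3 * Equiv.swap 3 4
  | 3 => Equiv.swap 3 4 * Equiv.swap 4 5
  | _ => 1

/-- A vector of a frame. -/
def fvecC (a k : ℕ) : List ℕ := ((framesC.getD a []).drop (6 * k)).take 6

/-- A coded matrix times a coded vector. -/
def mvC (A v : List ℕ) : List ℕ := (List.range 6).map fun i =>
  addC (addC (addC (mulC (ent A i 0) (v.getD 0 0)) (mulC (ent A i 1) (v.getD 1 0)))
    (addC (mulC (ent A i 2) (v.getD 2 0)) (mulC (ent A i 3) (v.getD 3 0))))
    (addC (mulC (ent A i 4) (v.getD 4 0)) (mulC (ent A i 5) (v.getD 5 0)))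

/-- Proportional coded vectors. -/
def propC (u v : List ℕ) : Bool :=
  (List.range 6).all fun i => (List.range 6).all fun j =>
    mulC (u.getD i 0) (v.getD j 0) == mulC (u.getD j 0) (v.getD i 0)

/-- A row of a line. -/
def lrowC (a r : ℕ) : List ℕ := ((linesC.getD a []).drop (2 + 4 * r)).take 4

/-- A pivot of a line. -/
def lpivC (a r : ℕ) : ℕ := (linesC.getD a []).getD r 0

/-- A coded vector lies on a line. -/
def inLineC (b : ℕ) (w : List ℕ) : Bool := (List.range 4).all fun i =>
  w.getD i 0 == addF (mulF (w.getD (lpivC b 0) 0) ((lrowC b 0).getD i 0))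
    (mulF (w.getD (lpivC b 1) 0) ((lrowC b 1).getD i 0))

/-- A coded matrix times a coded vector, degree four. -/
def mv9C (A : List (List ℕ)) (v : List ℕ) : List ℕ := (List.range 4).map fun i =>
  addF (addF (mulF (get4 A i 0) (v.getD 0 0)) (mulF (get4 A i 1) (v.getD 1 0)))
    (addF (mulF (get4 A i 2) (v.getD 2 0)) (mulF (get4 A i 3) (v.getD 3 0)))

/-- The two generators at index `j` respect frames and lines. -/
def compatC (j : ℕ) : Bool :=
  (List.range 112).all fun a =>
    let b := (framePermC.getD j []).getD a 0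
    decide (b < 112) &&
      ((List.range 6).all fun k => (List.range 6).any fun l =>
        propC (mvC (gensC.getD j []) (fvecC a k)) (fvecC b l)) &&
      ((List.range 2).all fun r => inLineC b (mv9C (fourC.getD j []) (lrowC a r)))

/-- One frame for each partition into two blocks of three. -/
def sepFrames : List ℕ := [1, 3, 4, 11, 12, 15, 16, 39, 47, 48]

/-- A coded vector scaled by powers of the cube root. -/
def scaleC (v : Fin 6 → ZMod 3) (x : List ℕ) : List ℕ :=
  (List.finRange 6).map fun i => mulC (cubeC (v i)) (x.getD i.val 0)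

end CfsgLib.SixTwo
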