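import Cfsg.Agent.SixTwo.ChecksDefs

/-!
Finite checks for the three classes of `3.U4(3)` in `SU (6, 2)` (gens).
-/

set_option autoImplicit false
set_option maxRecDepth 100000

namespace CfsgLib.SixTwo

open CfsgLib.UThree CfsgLib.UFourThree

theorem gens_mono :
    ((List.range 5).all fun k => gensC.getD k [] == monoC (diagGen k) 1) = true ∧
    ((List.range 4).all fun k => gensC.getD (5 + k) [] == monoC 0 (cycGen k)) = true ∧
    swapC = monoC 0 (Equiv.swap 0 1) := by
  decide +kernel

theorem diag_gen_sum : ∀ k < 5, ∑ i, diagGen k i = 0 := by decide +kernel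

theorem five_ok :
    ((List.range 3).all fun c => mulM (mulM (monoC (Pi.single 0 (c : ZMod 3)) 1) (gensC.getD 9 []))
      (monoC (Pi.single 0 (-(c : ZMod 3))) 1) == fiveC.getD c []) = true ∧
    unitaryB (gensC.getD 9 []) = true ∧ prodM (List.replicate 5 (gensC.getD 9 [])) = oneM ∧
    prodM (secondWord.map fun k => gensC.getD k []) = secondC := by
  decide +kernel

theorem four_ok : ((List.range 10).all fun j => colsOK (fourC.getD j []) &&
    pow4 (fourC.getD j []) (fourOrdC.getD j 0) == diag4 1 1 &&
      decide (Nat.Coprime (fourOrdC.getD j 0) 8)) = true := by decide +kernel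

theorem parents_ok : ((List.range 112).all fun a => a == 0 || (decide ((frameParC.getD a (0, 0)).1 < a) &&
    decide ((frameParC.getD a (0, 0)).2 < 10) &&
    (framePermC.getD (frameParC.getD a (0, 0)).2 []).getD (frameParC.getD a (0, 0)).1 0 == a)) = true := by
  decide +kernel

theorem frames_nonzero : ((List.range 112).all fun a => (List.range 6).all fun k =>
    (List.range 6).any fun i => decide ((fvecC a k).getD i 0 < 4) && (fvecC a k).getD i 0 != 0) = true := by
  decide +kernel

theorem frame_zero : ((List.range 6).all fun k => (List.range 6).all fun i =>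
    (fvecC 0 k).getD i 0 == if i = k then 1 else 0) = true := by decide +kernel

theorem lines_echelon : ((List.range 112).all fun a => (List.range 2).all fun r => (List.range 2).all fun s =>
    (lrowC a r).getD (lpivC a s) 0 == (if r = s then 1 else 0) && decide (lpivC a s < 4)) = true := by
  decide +kernel

end CfsgLib.SixTwo
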