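import Mathlib
import Cfsg.Prelude.Def_Classical

/-!
`SU (6, 2)` on codes: the field with four elements as `0, 1, w, w²`, coded matrices, and the members of the
group they give.
-/

set_option autoImplicit false

namespace CfsgLib.SixTwo

open Matrix

/-- A primitive element of a field with four elements. -/
structure Omega (F : Type*) [Field F] [Fintype F] where
  /-- The element. -/
  w : F
  card : Fintype.card F = 4
  sq : w * w = w + 1
  two : (2 : F) = 0

theorem exists_omega {F : Type*} [Field F] [Fintype F] (hF : Fintype.card F = 4) : Nonempty (Omega F) := by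
  classical
  have h4 : (4 : F) = 0 := by
    have := FiniteField.cast_card_eq_zero F
    rw [hF] at this
    exact_mod_cast this
  have h2 : (2 : F) = 0 := by
    have : (2 : F) * 2 = 0 := by rw [← h4]; norm_num
    exact (mul_self_eq_zero).1 this
  obtain ⟨w, hw⟩ : ∃ w, w ∈ (({0, 1} : Finset F))ᶜ := by
    refine Finset.card_pos.mp ?_
    rw [Finset.card_compl, hF]
    have := Finset.card_le_two (a := (0 : F)) (b := 1)
    omega
  simp only [Finset.mem_compl, Finset.mem_insert, Finset.mem_singleton, not_or] at hw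
  refine ⟨⟨w, hF, ?_, h2⟩⟩
  have h3 : w ^ 3 = 1 := by
    have := FiniteField.pow_card_sub_one_eq_one w hw.1
    rwa [hF] at this
  have : (w - 1) * (w * w + w + 1) = 0 := by linear_combination h3
  have h := (mul_eq_zero.1 this).resolve_left (sub_ne_zero.2 hw.2)
  linear_combination h - (w + 1) * h2

/-- Product of codes. -/
def mulC (a b : ℕ) : ℕ := ([0, 0, 0, 0, 0, 1, 2, 3, 0, 2, 3, 1, 0, 3, 1, 2] : List ℕ).getD (4 * (a % 4) + b % 4) 0

/-- Sum of codes. -/
def addC (a b : ℕ) : ℕ := ([0, 1, 2, 3, 1, 0, 3, 2, 2, 3, 0, 1, 3, 2, 1, 0] : List ℕ).getD (4 * (a % 4) + b % 4) 0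

/-- Conjugate of a code. -/
def conjC (a : ℕ) : ℕ := mulC a a

variable {F : Type*} [Field F] [Fintype F] (ω : Omega F)

/-- The value of a code. -/
def Omega.val (a : ℕ) : F :=
  if a % 4 = 0 then 0 else if a % 4 = 1 then 1 else if a % 4 = 2 then ω.w else ω.w + 1

theorem Omega.val_zero : ω.val 0 = 0 := rfl

theorem Omega.val_one : ω.val 1 = 1 := rfl

theorem Omega.val_mod (a : ℕ) : ω.val (a % 4) = ω.val a := by simp [Omega.val]

theorem Omega.val_add (a b : ℕ) : ω.val (addC a b) = ω.val a + ω.val b := by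
  rw [← ω.val_mod a, ← ω.val_mod b, addC]
  have ha : a % 4 < 4 := Nat.mod_lt _ (by norm_num)
  have hb : b % 4 < 4 := Nat.mod_lt _ (by norm_num)
  generalize a % 4 = x at ha ⊢
  generalize b % 4 = y at hb ⊢
  have h2 := ω.two
  interval_cases x <;> interval_cases y <;> norm_num [Omega.val, List.getD_cons_succ, List.getD_cons_zero] <;>
    first
      | linear_combination (0 : F) * h2
      | linear_combination h2
      | linear_combination -h2
      | linear_combination ω.w * h2
      | linear_combination -(ω.w * h2)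
      | linear_combination (ω.w + 1) * h2
      | linear_combination (-(ω.w + 1)) * h2

theorem Omega.val_mul (a b : ℕ) : ω.val (mulC a b) = ω.val a * ω.val b := by
  rw [← ω.val_mod a, ← ω.val_mod b]
  unfold mulC
  have ha : a % 4 < 4 := Nat.mod_lt _ (by norm_num)
  have hb : b % 4 < 4 := Nat.mod_lt _ (by norm_num)
  generalize a % 4 = x at ha ⊢
  generalize b % 4 = y at hb ⊢
  have h2 := ω.two
  have hs := ω.sq
  interval_cases x <;> interval_cases y <;> norm_num [Omega.val, List.getD_cons_succ, List.getD_cons_zero] <;>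
    first
      | linear_combination (0 : F) * h2
      | linear_combination hs
      | linear_combination -hs
      | linear_combination hs + ω.w * h2
      | linear_combination -hs - ω.w * h2
      | linear_combination hs + h2
      | linear_combination -hs - h2
      | linear_combination hs + (ω.w + 1) * h2
      | linear_combination -hs - (ω.w + 1) * h2

theorem Omega.val_conj (a : ℕ) : ω.val (conjC a) = ω.val a ^ 2 := by
  rw [conjC, ω.val_mul]; ring

theorem Omega.val_inj {a b : ℕ} (ha : a < 4) (hb : b < 4) (h : ω.val a = ω.val b) : a = b := by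
  have hw0 : ω.w ≠ 0 := fun e => by have := ω.sq; rw [e] at this; simp at this
  have hw1 : ω.w ≠ 1 := fun e => by
    have := ω.sq; rw [e, mul_one, one_add_one_eq_two, ω.two] at this; exact one_ne_zero this
  have hw2 : ω.w + 1 ≠ 0 := fun e => hw1 (by linear_combination e - ω.two)
  interval_cases a <;> interval_cases b <;>
    first
      | rfl
      | (exfalso; norm_num [Omega.val] at h <;>
          first
            | exact hw0 h | exact hw0 h.symm | exact hw1 h | exact hw1 h.symm | exact hw2 h | exact hw2 h.symm)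

theorem Omega.val_surjective (x : F) : ∃ a < 4, ω.val a = x := by
  have hinj : Function.Injective fun a : Fin 4 => ω.val a := fun a b h => Fin.ext (ω.val_inj a.2 b.2 h)
  obtain ⟨a, rfl⟩ :=
    ((Fintype.bijective_iff_injective_and_card _).2 ⟨hinj, by rw [Fintype.card_fin, ω.card]⟩).2 x
  exact ⟨a, a.2, rfl⟩

/-- An entry of a coded matrix, rows of six. -/
def ent (A : List ℕ) (i j : ℕ) : ℕ := A.getD (6 * i + j) 0 % 4

/-- A coded matrix from its entries. -/
def tab (f : ℕ → ℕ → ℕ) : List ℕ := (List.range 36).map fun k => f (k / 6) (k % 6)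

/-- Product of coded matrices. -/
def mulM (A B : List ℕ) : List ℕ := tab fun i j =>
  addC (addC (addC (mulC (ent A i 0) (ent B 0 j)) (mulC (ent A i 1) (ent B 1 j)))
    (addC (mulC (ent A i 2) (ent B 2 j)) (mulC (ent A i 3) (ent B 3 j))))
    (addC (mulC (ent A i 4) (ent B 4 j)) (mulC (ent A i 5) (ent B 5 j)))

/-- The unit matrix. -/
def oneM : List ℕ := tab fun i j => if i = j then 1 else 0

/-- The conjugate transpose. -/
def starM (A : List ℕ) : List ℕ := tab fun i j => conjC (ent A j i)

/-- The product of a list of coded matrices. -/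
def prodM : List (List ℕ) → List ℕ
  | [] => oneM
  | A :: L => mulM A (prodM L)

/-- Orthonormal columns. -/
def unitaryB (A : List ℕ) : Bool := mulM (starM A) A == oneM

/-- The matrix of a code. -/
def Omega.mat (A : List ℕ) : Matrix (Fin 6) (Fin 6) F := Matrix.of fun i j => ω.val (ent A i j)

theorem ent_tab (f : ℕ → ℕ → ℕ) {i j : ℕ} (hi : i < 6) (hj : j < 6) : ent (tab f) i j = f i j % 4 := by
  simp [ent, tab, List.getD_eq_getElem?_getD, List.getElem?_map, List.getElem?_range,
    show 6 * i + j < 36 by omega, show (6 * i + j) / 6 = i by omega, show (6 * i + j) % 6 = j by omega]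

theorem Omega.mat_tab (f : ℕ → ℕ → ℕ) : ω.mat (tab f) = Matrix.of fun i j : Fin 6 => ω.val (f i j) := by
  ext i j
  simp [Omega.mat, ent_tab f i.2 j.2, ω.val_mod]

theorem Omega.mat_mul (A B : List ℕ) : ω.mat (mulM A B) = ω.mat A * ω.mat B := by
  rw [mulM, ω.mat_tab]
  ext i j
  simp [Matrix.mul_apply, Fin.sum_univ_six, ω.val_add, ω.val_mul, Omega.mat]
  ring

theorem Omega.mat_one : ω.mat oneM = 1 := by
  rw [oneM, ω.mat_tab]
  ext i j
  by_cases h : i = j <;> simp [h, Fin.val_inj, ω.val_zero, ω.val_one, Matrix.one_apply]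

theorem Omega.mat_star (A : List ℕ) : ω.mat (starM A) = (ω.mat A)ᵀ.map (· ^ 2) := by
  rw [starM, ω.mat_tab]
  ext i j
  simp [Omega.mat, ω.val_conj]

theorem Omega.mat_inj {A B : List ℕ} (h : ω.mat A = ω.mat B) (i j : Fin 6) : ent A i j = ent B i j :=
  ω.val_inj (Nat.mod_lt _ (by norm_num)) (Nat.mod_lt _ (by norm_num)) (congrFun (congrFun h i) j)

include ω in
theorem Omega.charP : CharP F 2 :=
  CharTwo.of_one_ne_zero_of_two_eq_zero one_ne_zero ω.two

include ω in
theorem Omega.preserves {M : Matrix (Fin 6) (Fin 6) F} (h : Mᵀ.map (· ^ 2) * M = 1) (u v : Fin 6 → F) :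
    Cfsg.hermForm 6 F 2 (M *ᵥ u) (M *ᵥ v) = Cfsg.hermForm 6 F 2 u v := by
  haveI := ω.charP
  haveI : Fact (Nat.Prime 2) := ⟨Nat.prime_two⟩
  haveI : ExpChar F 2 := ExpChar.prime Nat.prime_two
  have hd : ∀ x y : Fin 6 → F, Cfsg.hermForm 6 F 2 x y = x ⬝ᵥ fun i => frobenius F 2 (y i) := fun x y => by
    simp [Cfsg.hermForm, dotProduct, frobenius_def]
  rw [hd, hd]
  have h2 : (fun i => frobenius F 2 ((M *ᵥ v) i)) = M.map (frobenius F 2) *ᵥ fun i => frobenius F 2 (v i) := by
    funext i
    exact RingHom.map_mulVec (frobenius F 2) M v i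
  have h3 : (M.map (frobenius F 2))ᵀ * M = 1 := by
    rw [← h]; congr 1
  rw [h2, Matrix.dotProduct_mulVec, ← Matrix.mulVec_transpose, Matrix.mulVec_mulVec, h3, Matrix.one_mulVec]

/-- The member of `SU (6, 2)` of a coded matrix. -/
def Omega.elt (A : List ℕ) (hu : unitaryB A = true) (hd : (ω.mat A).det = 1) : Cfsg.SU 6 F 2 :=
  ⟨⟨ω.mat A, hd⟩, fun u v => ω.preserves (by
    have := congrArg ω.mat (beq_iff_eq.1 hu)
    rwa [ω.mat_mul, ω.mat_one, ω.mat_star] at this) u v⟩

/-- The matrix of a member. -/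
abbrev matOf {n q : ℕ} (g : Cfsg.SU n F q) : Matrix (Fin n) (Fin n) F :=
  ((g : Matrix.SpecialLinearGroup (Fin n) F) : Matrix (Fin n) (Fin n) F)

omit [Fintype F] in
theorem matOf_injective {n q : ℕ} : Function.Injective (matOf : Cfsg.SU n F q → _) := fun _ _ e =>
  Subtype.ext (Subtype.ext e)

omit [Fintype F] in
theorem matOf_mul {n q : ℕ} (g h : Cfsg.SU n F q) : matOf (g * h) = matOf g * matOf h := rfl

omit [Fintype F] in
theorem matOf_one {n q : ℕ} : matOf (1 : Cfsg.SU n F q) = 1 := rfl

theorem det_of_pow {M : Matrix (Fin 6) (Fin 6) F} {n : ℕ} (hF : Fintype.card F = 4) (hn : Nat.Coprime n 3)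
    (h : M ^ n = 1) : M.det = 1 := by
  have h1 : M.det ^ n = 1 := by rw [← Matrix.det_pow, h, Matrix.det_one]
  have h0 : M.det ≠ 0 := by
    intro e
    rcases Nat.eq_zero_or_pos n with rfl | hn0
    · simp at hn
    · rw [e, zero_pow hn0.ne'] at h1; exact zero_ne_one h1
  have h3 : M.det ^ 3 = 1 := by
    have := FiniteField.pow_card_sub_one_eq_one _ h0
    rwa [hF] at this
  have := pow_gcd_eq_one.2 ⟨h1, h3⟩
  rwa [hn.gcd_eq_one, pow_one] at this

/-- A member evaluated from a word in coded members. -/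
theorem matOf_prod (L : List (Cfsg.SU 6 F 2)) (C : List (List ℕ))
    (h : List.Forall₂ (fun g A => matOf g = ω.mat A) L C) : matOf L.prod = ω.mat (prodM C) := by
  induction h with
  | nil => rw [prodM, ω.mat_one, List.prod_nil, matOf_one]
  | cons hg _ ih => rw [prodM, ω.mat_mul, List.prod_cons, matOf_mul, hg, ih]

end CfsgLib.SixTwo
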