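import Cfsg.Agent.SixTwo.Model

/-!
The three subgroups have order `3 · |PSU (4, 3)|` and central quotient `PSU (4, 3)`.
-/

set_option autoImplicit false

namespace CfsgLib.SixTwo

open Matrix CfsgLib.UThree CfsgLib.UFourThree

variable {F : Type*} [Field F] [Fintype F] (ω : Omega F)

theorem Omega.gen_frameMaps {j : ℕ} (hj : j < 10) (a : Fin 112) :
    ∃ b : Fin 112, b.val = (framePermC.getD j []).getD a 0 ∧ ω.FrameMaps (ω.gen j) a b := by
  have hc := List.all_eq_true.1 (List.all_eq_true.1 compat_ok j (List.mem_range.2 hj)) a.1 (List.mem_range.2 a.2)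
  simp only [Bool.and_eq_true, decide_eq_true_eq, List.all_eq_true, List.any_eq_true, List.mem_range] at hc
  obtain ⟨⟨hb, hf⟩, -⟩ := hc
  refine ⟨⟨_, hb⟩, rfl, fun k => ?_⟩
  obtain ⟨l, hl, hp⟩ := hf k k.2
  have hn := List.all_eq_true.1 (List.all_eq_true.1 frames_nonzero _ (List.mem_range.2 hb)) l (List.mem_range.2 hl)
  simp only [List.any_eq_true, List.mem_range, Bool.and_eq_true, bne_iff_ne, decide_eq_true_eq] at hn
  obtain ⟨i, hi, h4, hi0⟩ := hn
  obtain ⟨x, hx⟩ := ω.smul_of_propC hp hi fun e => hi0 (ω.val_inj h4 (by norm_num) (e.trans ω.val_zero.symm))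
  refine ⟨⟨l, hl⟩, x, ?_⟩
  rw [ω.mat_gen hj]
  exact (ω.mat_mulVec_code _ _).trans hx

theorem Omega.exists_rep : ∀ a : Fin 112, ∃ g ∈ ω.kSub 0, ω.FrameMaps g 0 a := by
  intro a
  induction h : a.val using Nat.strong_induction_on generalizing a with
  | _ n ih =>
    subst h
    by_cases h0 : a.val = 0
    · exact ⟨1, one_mem _, (show a = 0 from Fin.ext h0) ▸ ω.frameMaps_one 0⟩
    · have hp := List.all_eq_true.1 parents_ok a.1 (List.mem_range.2 a.2)
      simp only [Bool.or_eq_true, beq_iff_eq, h0, false_or, Bool.and_eq_true, decide_eq_true_eq] at hp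
      obtain ⟨⟨hpa, hj⟩, he⟩ := hp
      obtain ⟨g, hg, hg'⟩ := ih _ hpa ⟨_, hpa.trans a.2⟩ rfl
      obtain ⟨b, hb, hb'⟩ := ω.gen_frameMaps hj ⟨_, hpa.trans a.2⟩
      have : b = a := Fin.ext (hb.trans he)
      subst this
      exact ⟨_, mul_mem (ω.gen_mem _) hg, ω.frameMaps_mul hg' hb'⟩

theorem Omega.frameMaps_unique {g : Cfsg.SU 6 F 2} {a b : Fin 112} (ha : ω.FrameMaps g 0 a)
    (hb : ω.FrameMaps g 0 b) : a = b := by
  choose l x hl using ha
  have hx : ∀ k, x k ≠ 0 := by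
    intro k e
    have h1 := congrArg (fun w => matOf g⁻¹ *ᵥ w) (hl k)
    simp only [e, zero_smul, Matrix.mulVec_zero, Matrix.mulVec_mulVec, ← matOf_mul, inv_mul_cancel, matOf_one,
      Matrix.one_mulVec, ω.fvec_zero] at h1
    simpa using congrFun h1 k
  have hinj : Function.Injective l := by
    intro k1 k2 e
    by_contra hne
    have h1 : matOf g *ᵥ (x k2 • ω.fvec 0 k1 - x k1 • ω.fvec 0 k2) = 0 := by
      rw [Matrix.mulVec_sub, Matrix.mulVec_smul, Matrix.mulVec_smul, hl, hl, e, smul_smul, smul_smul,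
        mul_comm, sub_self]
    have h2 := congrArg (fun w => matOf g⁻¹ *ᵥ w) h1
    simp only [Matrix.mulVec_zero, Matrix.mulVec_mulVec, ← matOf_mul, inv_mul_cancel, matOf_one,
      Matrix.one_mulVec, ω.fvec_zero] at h2
    have h3 := congrFun h2 k1
    simp [Pi.single_eq_of_ne hne] at h3
    exact hx k2 h3
  refine ω.frame_unique fun m => ?_
  obtain ⟨k, rfl⟩ := (Finite.injective_iff_surjective.1 hinj) m
  obtain ⟨m', y, hy⟩ := hb k
  refine ⟨m', (x k)⁻¹ * y, ?_⟩
  rw [matOf_one, Matrix.one_mulVec, ← smul_smul, ← hy, hl, smul_smul, inv_mul_cancel₀ (hx k), one_smul]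

/-- Representatives of the 112 frames. -/
noncomputable def Omega.rep (a : Fin 112) : Cfsg.SU 6 F 2 := (ω.exists_rep a).choose

theorem Omega.rep_spec (a : Fin 112) : ω.rep a ∈ ω.kSub 0 ∧ ω.FrameMaps (ω.rep a) 0 a :=
  (ω.exists_rep a).choose_spec

/-- A member of the first subgroup from a frame and an element of `3^5:A6`. -/
noncomputable def Omega.repMap (p : Fin 112 × ω.monoAlt) : ω.kSub 0 :=
  ⟨ω.rep p.1 * p.2, mul_mem (ω.rep_spec p.1).1 (ω.monoAlt_le_kSub 0 p.2.2)⟩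

theorem Omega.repMap_injective : Function.Injective ω.repMap := by
  rintro ⟨a, m⟩ ⟨b, n⟩ e
  have e' : ω.rep a * (m : Cfsg.SU 6 F 2) = ω.rep b * n := congrArg Subtype.val e
  have hfix : ∀ m : ω.monoAlt, ω.FrameMaps (m : Cfsg.SU 6 F 2) 0 0 := fun m =>
    ω.mono_fix_zero (ω.monoSub_le le_top m.2)
  obtain rfl : a = b := ω.frameMaps_unique (ω.frameMaps_mul (hfix m) (ω.rep_spec a).2)
    (e' ▸ ω.frameMaps_mul (hfix n) (ω.rep_spec b).2)
  exact Prod.ext rfl (Subtype.ext (mul_left_cancel e'))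

include ω in
theorem Omega.center_le_kSub (c : ZMod 3) : Subgroup.center (Cfsg.SU 6 F 2) ≤ ω.kSub c :=
  (ω.center_le.trans (ω.monoSub_le bot_le)).trans (ω.monoAlt_le_kSub c)

variable {F9 : Type*} [Field F9] [Fintype F9] (hF9 : Fintype.card F9 = 9)
include hF9

omit [Fintype F] in
theorem exists_iota : CharP F9 3 ∧ ∃ ι : F9, ι ^ 2 = -1 := by
  haveI : CharP F9 3 := by
    obtain ⟨p, hp⟩ := CharP.exists F9
    haveI := hp
    obtain ⟨n, hprime, hn⟩ := FiniteField.card F9 p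
    have : p = 3 := by
      have : p ∣ 3 ^ 2 := by
        rw [show (3 : ℕ) ^ 2 = Fintype.card F9 by rw [hF9]; rfl, hn]
        exact dvd_pow_self p n.2.ne'
      exact (Nat.prime_dvd_prime_iff_eq hprime (by norm_num)).1 (hprime.dvd_of_dvd_pow this)
    exact this ▸ hp
  refine ⟨inferInstance, ?_⟩
  obtain ⟨r, hr⟩ : IsSquare (-1 : F9) := by
    rw [FiniteField.isSquare_iff (by rw [ringChar.eq F9 3]; norm_num) (by norm_num), hF9]
    norm_num
  exact ⟨r, by rw [hr, sq]⟩

theorem Omega.kSub_zero_facts :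
    Nat.card (ω.kSub 0) = 9797760 ∧ Nonempty (bar (ω.kSub 0) ≃* Cfsg.PSU 4 F9 3) := by
  obtain ⟨hchar, ι, hι⟩ := exists_iota hF9
  haveI := hchar
  set γ := (QuotientGroup.mk' (Subgroup.center (Cfsg.SU 6 F 2))).comp (ω.projSix ι) with hγ
  have hle : bar (ω.kSub 0) ≤ γ.range := by
    rw [hγ, MonoidHom.range_comp]
    exact Subgroup.map_mono (ω.kSub_zero_le_range hι hF9)
  have hcK := card_bar (ω.center_le_kSub 0)
  rw [ω.card_center] at hcK
  have hlow : 112 * 87480 ≤ Nat.card (ω.kSub 0) := by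
    have := Nat.card_le_card_of_injective _ ω.repMap_injective
    rwa [Nat.card_prod, Nat.card_fin, ω.card_monoAlt] at this
  have hk := ω.ker_four_le hι hF9
  have hidx : γ.ker.index ∣ (ω.projFour ι).ker.index := Subgroup.index_dvd_of_le hk
  rw [Subgroup.index_ker, Subgroup.index_ker] at hidx
  have h1 := Subgroup.card_le_of_le hle
  have h2 := Nat.le_of_dvd Nat.card_pos hidx
  have h3 := Subgroup.card_le_card_group (ω.projFour ι).range
  rw [card_eq hι hF9] at h3
  have hK : Nat.card (ω.kSub 0) = 9797760 := by omega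
  refine ⟨hK, ?_⟩
  have hbar : bar (ω.kSub 0) = γ.range := Subgroup.eq_of_le_of_card_ge hle (by omega)
  have htop : (ω.projFour ι).range = ⊤ := Subgroup.eq_top_of_card_eq _ (by rw [card_eq hι hF9]; omega)
  have hkk : (ω.projFour ι).ker = γ.ker := by
    refine Subgroup.eq_of_le_of_card_ge hk ?_
    have a1 := Subgroup.index_mul_card γ.ker
    have a2 := Subgroup.index_mul_card (ω.projFour ι).ker
    rw [Subgroup.index_ker] at a1 a2
    have e : Nat.card γ.range = Nat.card (ω.projFour ι).range := by omega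
    rw [e, ← a2] at a1
    exact le_of_eq (Nat.eq_of_mul_eq_mul_left Nat.card_pos a1)
  exact ⟨(MulEquiv.subgroupCongr hbar).trans ((QuotientGroup.quotientKerEquivRange γ).symm.trans
    ((QuotientGroup.quotientMulEquivOfEq hkk.symm).trans ((QuotientGroup.quotientKerEquivRange _).trans
      ((MulEquiv.subgroupCongr htop).trans Subgroup.topEquiv))))⟩

theorem Omega.card_kSub (c : ZMod 3) : Nat.card (ω.kSub c) = 9797760 := by
  have h := (ω.kSub_zero_facts hF9).1
  rw [ω.kSub_zero] at h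
  rw [Omega.kSub, Subgroup.card_map_of_injective (ω.outAut c).injective, h]

theorem Omega.kSub_inf_mono (c : ZMod 3) {g : Cfsg.SU 6 F 2} (h1 : g ∈ ω.kSub c) (h2 : g ∈ ω.monoFull) :
    g ∈ ω.monoAlt := by
  obtain ⟨y, hy, rfl⟩ := h1
  change y ∈ ω.monoAlt ⊔ Subgroup.zpowers ω.five at hy
  rw [← ω.kSub_zero] at hy
  have hbij : Function.Bijective ω.repMap := by
    rw [Nat.bijective_iff_injective_and_card]
    exact ⟨ω.repMap_injective, by rw [Nat.card_prod, Nat.card_fin, ω.card_monoAlt, ω.card_kSub hF9 0]⟩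
  have hyF : y ∈ ω.monoFull := by
    rw [Omega.monoFull, ← ω.map_outAut_monoSub c ⊤] at h2
    obtain ⟨z, hz, e⟩ := h2
    rwa [← (ω.outAut c).injective e]
  obtain ⟨⟨a, m⟩, e⟩ := hbij.2 ⟨y, hy⟩
  have e' : ω.rep a * (m : Cfsg.SU 6 F 2) = y := congrArg Subtype.val e
  obtain rfl : a = 0 := ω.frameMaps_unique (g := y)
    (e' ▸ ω.frameMaps_mul (ω.mono_fix_zero (ω.monoSub_le le_top m.2)) (ω.rep_spec a).2) (ω.mono_fix_zero hyF)
  have hr : ω.rep 0 ∈ ω.monoFull := ω.monoFull_of_fix (ω.rep_spec 0).2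
  -- the representative of the base frame lies in `3^5:A6`: compare with the pair `(0, 1)`
  have hsur : ∃ n : ω.monoAlt, ω.rep 0 * (n : Cfsg.SU 6 F 2) = 1 := by
    obtain ⟨⟨b, n⟩, en⟩ := hbij.2 ⟨1, one_mem _⟩
    have en' : ω.rep b * (n : Cfsg.SU 6 F 2) = 1 := congrArg Subtype.val en
    obtain rfl : b = 0 := ω.frameMaps_unique (g := (1 : Cfsg.SU 6 F 2))
      (en' ▸ ω.frameMaps_mul (ω.mono_fix_zero (ω.monoSub_le le_top n.2)) (ω.rep_spec b).2) (ω.frameMaps_one 0)
    exact ⟨n, en'⟩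
  obtain ⟨n, hn⟩ := hsur
  have hrep : ω.rep 0 ∈ ω.monoAlt := by
    rw [eq_inv_of_mul_eq_one_left hn]; exact inv_mem n.2
  have hy' : y ∈ ω.monoAlt := e' ▸ mul_mem hrep m.2
  show _ ∈ ω.monoSub _
  rw [← ω.map_outAut_monoSub c (alternatingGroup (Fin 6))]
  exact Subgroup.mem_map_of_mem _ hy'

theorem Omega.kSub_quot (c : ZMod 3) : Nat.card (Subgroup.center ↥(ω.kSub c)) = 3 ∧
    Nonempty (↥(ω.kSub c) ⧸ Subgroup.center ↥(ω.kSub c) ≃* Cfsg.PSU 4 F9 3) := by
  obtain ⟨hchar, ι, hι⟩ := exists_iota hF9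
  haveI := hchar
  obtain ⟨e⟩ := (ω.kSub_zero_facts hF9).2
  haveI := Cfsg.Agent.S0283.result (F := F9) (q := 3) (by rw [hF9]; norm_num) 4 (by norm_num) (by norm_num)
  obtain ⟨hc, ⟨e'⟩⟩ := center_eq_and_iso (ω.center_le_kSub 0)
    (center_eq_bot_of_simple (T := Cfsg.PSU 4 F9 3) (by rw [card_eq hι hF9]; norm_num)) e
  let f : ↥(ω.kSub 0) ≃* ↥(ω.kSub c) :=
    (MulEquiv.subgroupCongr ω.kSub_zero).trans
      ((ω.monoAlt ⊔ Subgroup.zpowers ω.five).equivMapOfInjective (ω.outAut c).toMonoidHom (ω.outAut c).injective)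
  have hmap : (Subgroup.center ↥(ω.kSub 0)).map f.toMonoidHom = Subgroup.center ↥(ω.kSub c) := by
    ext z
    rw [Subgroup.mem_map_equiv, Subgroup.mem_center_iff, Subgroup.mem_center_iff]
    constructor
    · intro h g
      have := congrArg f (h (f.symm g))
      simpa using this
    · intro h g
      exact f.injective (by simpa using h (f g))
  refine ⟨?_, ⟨(QuotientGroup.congr _ _ f hmap).symm.trans e'⟩⟩
  rw [← hmap, Subgroup.card_map_of_injective (show Function.Injective f.toMonoidHom from f.injective), hc,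
    Nat.card_congr (Subgroup.subgroupOfEquivOfLe (ω.center_le_kSub 0)).toEquiv, ω.card_center]

end CfsgLib.SixTwo
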