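import Cfsg.Agent.SixTwo.Mono

/-!
Conjugation of `SU (6, 2)` by the diagonal elements of `GU (6, 2)`.
-/

set_option autoImplicit false

namespace CfsgLib.SixTwo

open Matrix

local notation "V6" => Fin 6 → ZMod 3

variable {F : Type*} [Field F] [Fintype F] (ω : Omega F)

/-- The diagonal matrix with `w ^ k` in the first place. -/
def Omega.outMat (k : ZMod 3) : Matrix (Fin 6) (Fin 6) F := ω.monoMat (Pi.single 0 k) 1

theorem Omega.outMat_mul (k l : ZMod 3) : ω.outMat k * ω.outMat l = ω.outMat (k + l) := by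
  rw [Omega.outMat, Omega.outMat, ω.monoMat_mul, mul_one, Omega.outMat]
  congr 1
  funext i
  show (Pi.single 0 k : V6) i + (Pi.single 0 l : V6) i = (Pi.single 0 (k + l) : V6) i
  rw [Pi.single_add]; rfl

theorem Omega.outMat_zero : ω.outMat 0 = 1 := by rw [Omega.outMat, Pi.single_zero, ω.monoMat_one]

theorem Omega.outMat_cancel (k : ZMod 3) : ω.outMat k * ω.outMat (-k) = 1 := by
  rw [ω.outMat_mul, add_neg_cancel, ω.outMat_zero]

theorem Omega.outMat_det (k : ZMod 3) : (ω.outMat k).det = ω.cube k := by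
  rw [Omega.outMat, ω.det_monoMat, Fintype.sum_pi_single']

/-- The conjugate of a member by `outMat k`. -/
def Omega.outFun (k : ZMod 3) (g : Cfsg.SU 6 F 2) : Cfsg.SU 6 F 2 :=
  ⟨⟨ω.outMat k * matOf g * ω.outMat (-k), by
      rw [Matrix.det_mul, Matrix.det_mul, (g : Matrix.SpecialLinearGroup (Fin 6) F).2, ω.outMat_det,
        ω.outMat_det, mul_one, ← ω.cube_add, add_neg_cancel, ω.cube_zero]⟩, fun u v => by
    show Cfsg.hermForm 6 F 2 ((ω.outMat k * matOf g * ω.outMat (-k)) *ᵥ u)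
      ((ω.outMat k * matOf g * ω.outMat (-k)) *ᵥ v) = _
    rw [← Matrix.mulVec_mulVec, ← Matrix.mulVec_mulVec, ← Matrix.mulVec_mulVec, ← Matrix.mulVec_mulVec,
      Omega.outMat, ω.preserves (ω.monoMat_unitary _ _)]
    refine Eq.trans (g.2 _ _) ?_
    exact ω.preserves (ω.monoMat_unitary _ _) u v⟩

theorem Omega.mat_outFun (k : ZMod 3) (g : Cfsg.SU 6 F 2) :
    matOf (ω.outFun k g) = ω.outMat k * matOf g * ω.outMat (-k) := rfl

/-- The outer diagonal automorphism. -/
def Omega.outAut (k : ZMod 3) : Cfsg.SU 6 F 2 ≃* Cfsg.SU 6 F 2 where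
  toFun := ω.outFun k
  invFun := ω.outFun (-k)
  left_inv g := matOf_injective (by
    rw [ω.mat_outFun, ω.mat_outFun, neg_neg, ← mul_assoc, ← mul_assoc, ω.outMat_mul, neg_add_cancel,
      ω.outMat_zero, one_mul, mul_assoc, ω.outMat_mul, neg_add_cancel, ω.outMat_zero, mul_one])
  right_inv g := matOf_injective (by
    rw [ω.mat_outFun, ω.mat_outFun, neg_neg, ← mul_assoc, ← mul_assoc, ω.outMat_mul, add_neg_cancel,
      ω.outMat_zero, one_mul, mul_assoc, ω.outMat_mul, add_neg_cancel, ω.outMat_zero, mul_one])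
  map_mul' g h := matOf_injective (by
    rw [matOf_mul, ω.mat_outFun, ω.mat_outFun, ω.mat_outFun, matOf_mul]
    have e := ω.outMat_mul (-k) k
    rw [neg_add_cancel, ω.outMat_zero] at e
    simp only [mul_assoc]
    rw [← mul_assoc (ω.outMat (-k)), e, one_mul])

theorem Omega.map_outAut_monoSub (k : ZMod 3) (S : Subgroup (Equiv.Perm (Fin 6))) :
    (ω.monoSub S).map (ω.outAut k).toMonoidHom = ω.monoSub S := by
  haveI : Finite (ω.monoSub S) := inferInstance
  refine Subgroup.eq_of_le_of_card_ge ?_ (le_of_eq ?_)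
  · rintro _ ⟨g, ⟨v, π, hπ, hg⟩, rfl⟩
    refine ⟨fun i => (Pi.single 0 k : V6) i + v i + (Pi.single 0 (-k) : V6) (π⁻¹ i), π, hπ,
      (ω.mat_outFun k g).trans ?_⟩
    rw [hg, Omega.outMat, Omega.outMat, ω.monoMat_mul, ω.monoMat_mul, one_mul, mul_one, inv_one]
    rfl
  · exact (Subgroup.card_map_of_injective (ω.outAut k).injective).symm

end CfsgLib.SixTwo
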