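import Mathlib

/-!
Subgroups containing the centre with a simple nonabelian image modulo it.
-/

set_option autoImplicit false

namespace CfsgLib.SixTwo

variable {G : Type*} [Group G] [Finite G]

/-- The image modulo the centre. -/
def bar (X : Subgroup G) : Subgroup (G ⧸ Subgroup.center G) := X.map (QuotientGroup.mk' (Subgroup.center G))

theorem mem_of_bar_mem {X : Subgroup G} (hX : Subgroup.center G ≤ X) {g : G}
    (h : (QuotientGroup.mk g : G ⧸ Subgroup.center G) ∈ bar X) : g ∈ X := by
  obtain ⟨x, hx, e⟩ := h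
  have h1 : x⁻¹ * g ∈ Subgroup.center G := QuotientGroup.eq.1 e
  simpa using X.mul_mem hx (hX h1)

theorem card_bar {X : Subgroup G} (hX : Subgroup.center G ≤ X) :
    Nat.card (bar X) * Nat.card (Subgroup.center G) = Nat.card X := by
  let f : X →* G ⧸ Subgroup.center G := (QuotientGroup.mk' (Subgroup.center G)).comp X.subtype
  have e1 : f.range = bar X := by
    rw [MonoidHom.range_comp, Subgroup.range_subtype]; rfl
  have e2 : f.ker = (Subgroup.center G).subgroupOf X := by
    ext x; simp [f, Subgroup.mem_subgroupOf]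
  rw [← Subgroup.index_mul_card f.ker, Subgroup.index_ker, e1, e2,
    Nat.card_congr (Subgroup.subgroupOfEquivOfLe hX).toEquiv]

/-- With a centreless image, the centre of a subgroup is that of the group. -/
theorem center_eq_and_iso {X : Subgroup G} (hX : Subgroup.center G ≤ X) {T : Type*} [Group T]
    (hT : Subgroup.center T = ⊥) (e : bar X ≃* T) :
    Subgroup.center X = (Subgroup.center G).subgroupOf X ∧ Nonempty (X ⧸ Subgroup.center X ≃* T) := by
  let f : X →* bar X :=
    ((QuotientGroup.mk' (Subgroup.center G)).comp X.subtype).codRestrict (bar X) fun x => ⟨x, x.2, rfl⟩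
  have hsurj : Function.Surjective f := by
    rintro ⟨_, x, hx, rfl⟩; exact ⟨⟨x, hx⟩, rfl⟩
  have hker : f.ker = (Subgroup.center G).subgroupOf X := by
    ext x
    rw [MonoidHom.mem_ker, Subgroup.mem_subgroupOf, ← Subtype.coe_inj]
    exact QuotientGroup.eq_one_iff _
  have hc : Subgroup.center X = f.ker := by
    refine le_antisymm (fun z hz => ?_) fun z hz => ?_
    · have h1 : e (f z) ∈ Subgroup.center T := Subgroup.mem_center_iff.2 fun t => by
        obtain ⟨y, rfl⟩ := e.surjective t
        obtain ⟨x, rfl⟩ := hsurj y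
        rw [← map_mul, ← map_mul, ← map_mul, ← map_mul, Subgroup.mem_center_iff.1 hz x]
      rw [hT, Subgroup.mem_bot, MulEquiv.map_eq_one_iff] at h1
      exact h1
    · rw [hker, Subgroup.mem_subgroupOf] at hz
      exact Subgroup.mem_center_iff.2 fun x => Subtype.ext (Subgroup.mem_center_iff.1 hz x.1)
  exact ⟨hc.trans hker, ⟨(QuotientGroup.quotientMulEquivOfEq hc).trans
    ((QuotientGroup.quotientKerEquivOfSurjective f hsurj).trans e)⟩⟩

theorem bar_iso {X : Subgroup G} (_hX : Subgroup.center G ≤ X)
    (hc : Subgroup.center X = (Subgroup.center G).subgroupOf X) : Nonempty (X ⧸ Subgroup.center X ≃* bar X) := by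
  let f : X →* bar X :=
    ((QuotientGroup.mk' (Subgroup.center G)).comp X.subtype).codRestrict (bar X) fun x => ⟨x, x.2, rfl⟩
  have hsurj : Function.Surjective f := by
    rintro ⟨_, x, hx, rfl⟩; exact ⟨⟨x, hx⟩, rfl⟩
  have hker : f.ker = Subgroup.center X := by
    rw [hc]
    ext x
    rw [MonoidHom.mem_ker, Subgroup.mem_subgroupOf, ← Subtype.coe_inj]
    exact QuotientGroup.eq_one_iff _
  exact ⟨(QuotientGroup.quotientMulEquivOfEq hker.symm).trans (QuotientGroup.quotientKerEquivOfSurjective f hsurj)⟩

theorem center_eq_bot_of_simple {T : Type*} [Group T] [Finite T] [IsSimpleGroup T]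
    (h : ¬ (Nat.card T).Prime) : Subgroup.center T = ⊥ := by
  refine (IsSimpleGroup.eq_bot_or_eq_top_of_normal _ inferInstance).resolve_right fun e => h ?_
  letI : CommGroup T := { ‹Group T› with
    mul_comm := fun a b => (Subgroup.mem_center_iff.1 (e ▸ Subgroup.mem_top b : b ∈ Subgroup.center T) a) }
  exact IsSimpleGroup.prime_card

end CfsgLib.SixTwo
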