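import Cfsg.Agent.SixTwo.Checks
import Cfsg.Agent.SixTwo.Outer
import Cfsg.Agent.SixTwo.Quot
import Cfsg.Agent.S0283

/-!
The subgroup `3.U4(3)` of `SU (6, 2)` through the monomial group, matched with `PSU (4, 3)` by 112 frames
and 112 totally isotropic lines.
-/

set_option autoImplicit false
set_option maxRecDepth 100000

namespace CfsgLib.SixTwo

open Matrix CfsgLib.UThree CfsgLib.UFourThree

local notation "V6" => Fin 6 → ZMod 3

variable {F : Type*} [Field F] [Fintype F] (ω : Omega F)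

theorem Omega.diag_nsmul_mem {X : Subgroup (Cfsg.SU 6 F 2)} {v : V6} (hv : ∑ i, v i = 0)
    (h : ω.mono v hv 1 ∈ X) : ∀ n : ℕ, ∀ h' : ∑ i, (n • v) i = 0, ω.mono (n • v) h' 1 ∈ X
  | 0, h' => by
    have : ω.mono (0 • v) h' 1 = 1 := matOf_injective (by rw [ω.mat_mono, matOf_one, zero_smul, ω.monoMat_one])
    rw [this]; exact one_mem _
  | n + 1, h' => by
    have h0 : ∑ i, (n • v) i = 0 := by simp only [Pi.smul_apply, ← Finset.smul_sum, hv, smul_zero]
    have : ω.mono ((n + 1) • v) h' 1 = ω.mono (n • v) h0 1 * ω.mono v hv 1 := matOf_injective (by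
      rw [matOf_mul, ω.mat_mono, ω.mat_mono, ω.mat_mono, ω.monoMat_mul, mul_one]
      congr 1
      all_goals (funext i; simp [succ_nsmul]))
    rw [this]; exact mul_mem (Omega.diag_nsmul_mem hv h n h0) h

theorem Omega.diag_add_mem {X : Subgroup (Cfsg.SU 6 F 2)} {u v : V6}
    (hu : ∃ h : ∑ i, u i = 0, ω.mono u h 1 ∈ X) (hv : ∃ h : ∑ i, v i = 0, ω.mono v h 1 ∈ X) :
    ∃ h : ∑ i, (u + v) i = 0, ω.mono (u + v) h 1 ∈ X := by
  obtain ⟨hu, hu'⟩ := hu
  obtain ⟨hv, hv'⟩ := hv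
  have h : ∑ i, (u + v) i = 0 := by simp [Finset.sum_add_distrib, hu, hv]
  refine ⟨h, ?_⟩
  have : ω.mono (u + v) h 1 = ω.mono u hu 1 * ω.mono v hv 1 := matOf_injective (by
    rw [matOf_mul, ω.mat_mono, ω.mat_mono, ω.mat_mono, ω.monoMat_mul, mul_one]
    congr 1)
  rw [this]; exact mul_mem hu' hv'

theorem Omega.diag_le_of_gens {X : Subgroup (Cfsg.SU 6 F 2)}
    (hd : ∀ k, ∀ hk : k < 5, ω.mono (diagGen k) (diag_gen_sum k hk) 1 ∈ X) : ω.diagSub ≤ X := by
  rintro g ⟨v, π, hπ, hg⟩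
  rw [Subgroup.mem_bot] at hπ
  subst hπ
  have hv := ω.sum_eq_zero hg
  have hk : ∀ k, k < 5 → ∀ n : ℕ, ∃ h : ∑ i, (n • diagGen k) i = 0, ω.mono (n • diagGen k) h 1 ∈ X :=
    fun k hk n => ⟨by simp only [Pi.smul_apply, ← Finset.smul_sum, diag_gen_sum k hk, smul_zero],
      ω.diag_nsmul_mem _ (hd k hk) n _⟩
  obtain ⟨h, hm⟩ := ω.diag_add_mem (ω.diag_add_mem (ω.diag_add_mem (ω.diag_add_mem
    (hk 0 (by norm_num) (v 0).val) (hk 1 (by norm_num) (v 0 + v 1).val))
    (hk 2 (by norm_num) (v 0 + v 1 + v 2).val)) (hk 3 (by norm_num) (v 0 + v 1 + v 2 + v 3).val))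
    (hk 4 (by norm_num) (v 0 + v 1 + v 2 + v 3 + v 4).val)
  have e := diag_decomp v hv
  have : g = ω.mono _ h 1 := matOf_injective (by rw [hg, ω.mat_mono, ← e])
  rw [this]; exact hm

/-- The permutations represented in a subgroup. -/
def Omega.permPart (X : Subgroup (Cfsg.SU 6 F 2)) : Subgroup (Equiv.Perm (Fin 6)) where
  carrier := {π | ω.mono 0 (by simp) π ∈ X}
  one_mem' := by
    show ω.mono 0 _ 1 ∈ X
    rw [show ω.mono 0 (by simp) 1 = 1 from matOf_injective (by rw [ω.mat_mono, ω.monoMat_one, matOf_one])]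
    exact one_mem _
  mul_mem' {a b} ha hb := by
    show ω.mono 0 _ (a * b) ∈ X
    rw [show ω.mono 0 (by simp) (a * b) = ω.mono 0 (by simp) a * ω.mono 0 (by simp) b from matOf_injective (by
      rw [matOf_mul, ω.mat_mono, ω.mat_mono, ω.mat_mono, ω.monoMat_mul]
      congr 1
      all_goals (funext i; simp))]
    exact mul_mem ha hb
  inv_mem' {a} ha := by
    show ω.mono 0 _ a⁻¹ ∈ X
    rw [show ω.mono 0 (by simp) a⁻¹ = (ω.mono 0 (by simp) a)⁻¹ from eq_inv_of_mul_eq_one_right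
      (matOf_injective (by
        rw [matOf_mul, ω.mat_mono, ω.mat_mono, ω.monoMat_mul, matOf_one, mul_inv_cancel, ← ω.monoMat_one]
        congr 1
        all_goals (funext i; simp)))]
    exact inv_mem ha

theorem Omega.monoAlt_le_of {X : Subgroup (Cfsg.SU 6 F 2)} (hD : ω.diagSub ≤ X)
    (hc : ∀ σ : Equiv.Perm (Fin 6), σ.IsThreeCycle → σ ∈ ω.permPart X) : ω.monoAlt ≤ X := by
  rintro g ⟨v, π, hπ, hg⟩
  have hv := ω.sum_eq_zero hg
  have h1 : π ∈ ω.permPart X := by
    refine (?_ : alternatingGroup (Fin 6) ≤ ω.permPart X) hπ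
    rw [← Equiv.Perm.closure_three_cycles_eq_alternating]
    exact (Subgroup.closure_le _).2 hc
  have e : g = ω.mono v hv 1 * ω.mono 0 (by simp) π := matOf_injective (by
    rw [matOf_mul, ω.mat_mono, ω.mat_mono, hg, ω.monoMat_mul, one_mul]
    congr 1
    funext i; simp)
  rw [e]; exact mul_mem (hD (ω.mono_mem (S := ⊥) v hv (one_mem _))) h1

theorem Omega.monoAlt_le_of_gens {X : Subgroup (Cfsg.SU 6 F 2)}
    (hd : ∀ k, ∀ hk : k < 5, ω.mono (diagGen k) (diag_gen_sum k hk) 1 ∈ X)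
    (hc : ∀ k < 4, cycGen k ∈ ω.permPart X) : ω.monoAlt ≤ X := by
  refine ω.monoAlt_le_of (ω.diag_le_of_gens hd) fun σ hσ => ?_
  obtain ⟨a, ha⟩ := hσ.isCycle.nonempty_support
  have h := hσ.eq_swap_mul_swap_iff_mem_support.2 ha
  have hn := hσ.nodup_iff_mem_support.2 ha
  simp only [List.nodup_cons, List.mem_cons, List.not_mem_nil, or_false, not_or, List.nodup_nil,
    and_true] at hn
  have hw := Equiv.ext (cycle_words (σ a) a (σ (σ a)) (Ne.symm hn.1.1) hn.2.1 hn.1.2)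
  rw [h, Equiv.swap_comm a (σ a), ← hw]
  refine list_prod_mem fun x hx => ?_
  obtain ⟨k, -, rfl⟩ := List.mem_map.1 hx
  by_cases hk : k < 4
  · exact hc k hk
  · have : cycGen k = 1 := by
      obtain ⟨j, rfl⟩ : ∃ j, k = 4 + j := ⟨k - 4, by omega⟩
      rw [Nat.add_comm]; rfl
    rw [this]; exact one_mem _

theorem Omega.mat_replicate (A : List ℕ) : ∀ n, ω.mat (prodM (List.replicate n A)) = ω.mat A ^ n
  | 0 => by rw [List.replicate_zero, prodM, ω.mat_one, pow_zero]
  | n + 1 => by rw [List.replicate_succ, prodM, ω.mat_mul, Omega.mat_replicate A n, pow_succ']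

/-- The element of order five. -/
def Omega.five : Cfsg.SU 6 F 2 :=
  ω.elt (gensC.getD 9 []) five_ok.2.1 (det_of_pow (n := 5) ω.card (by norm_num)
    (by rw [← ω.mat_replicate, five_ok.2.2.1, ω.mat_one]))

theorem Omega.mat_five : matOf ω.five = ω.mat (gensC.getD 9 []) := rfl

/-- The three subgroups. -/
def Omega.kSub (c : ZMod 3) : Subgroup (Cfsg.SU 6 F 2) :=
  (ω.monoAlt ⊔ Subgroup.zpowers ω.five).map (ω.outAut c).toMonoidHom

theorem Omega.monoAlt_le_kSub (c : ZMod 3) : ω.monoAlt ≤ ω.kSub c := by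
  show ω.monoSub _ ≤ _
  rw [← ω.map_outAut_monoSub c (alternatingGroup (Fin 6))]
  exact Subgroup.map_mono le_sup_left

theorem Omega.five_mem (c : ZMod 3) : ω.outFun c ω.five ∈ ω.kSub c :=
  Subgroup.mem_map_of_mem _ (Subgroup.mem_sup_right (Subgroup.mem_zpowers _))

theorem Omega.kSub_le {c : ZMod 3} {X : Subgroup (Cfsg.SU 6 F 2)} (hM : ω.monoAlt ≤ X)
    (h5 : ω.outFun c ω.five ∈ X) : ω.kSub c ≤ X := by
  rw [Omega.kSub, Subgroup.map_sup, sup_le_iff, MonoidHom.map_zpowers, Subgroup.zpowers_le]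
  exact ⟨(le_of_eq (ω.map_outAut_monoSub c (alternatingGroup (Fin 6)))).trans hM, h5⟩

theorem Omega.kSub_zero : ω.kSub 0 = ω.monoAlt ⊔ Subgroup.zpowers ω.five := by
  have : (ω.outAut 0).toMonoidHom = MonoidHom.id (Cfsg.SU 6 F 2) := MonoidHom.ext fun g => matOf_injective (by
    show matOf (ω.outFun 0 g) = matOf g
    rw [ω.mat_outFun, neg_zero, ω.outMat_zero, one_mul, mul_one])
  rw [Omega.kSub, this, Subgroup.map_id]

theorem Omega.mat_outFive (c : ZMod 3) : matOf (ω.outFun c ω.five) = ω.mat (fiveC.getD c.val []) := by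
  have h := List.all_eq_true.1 five_ok.1 c.val (List.mem_range.2 c.val_lt)
  rw [beq_iff_eq, ZMod.natCast_rightInverse c] at h
  rw [ω.mat_outFun, ω.mat_five, Omega.outMat, Omega.outMat, ← ω.mat_monoC, ← ω.mat_monoC, ← ω.mat_mul,
    ← ω.mat_mul, h]

/-- The generators. -/
def Omega.gen (j : ℕ) : Cfsg.SU 6 F 2 :=
  if h : j < 5 then ω.mono (diagGen j) (diag_gen_sum j h) 1
  else if j < 9 then ω.mono 0 (by simp) (cycGen (j - 5)) else ω.five

theorem Omega.gen_mem_monoAlt {j : ℕ} (hj : j < 9) : ω.gen j ∈ ω.monoAlt := by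
  unfold Omega.gen
  split
  · exact ω.mono_mem _ _ (one_mem _)
  · refine ω.mono_mem _ _ ?_
    exact Equiv.Perm.mem_alternatingGroup.2
      ((by decide +kernel : ∀ k < 4, Equiv.Perm.sign (cycGen k) = 1) _ (by omega))

theorem Omega.mat_gen {j : ℕ} (hj : j < 10) : matOf (ω.gen j) = ω.mat (gensC.getD j []) := by
  obtain ⟨h1, h2, -⟩ := gens_mono
  unfold Omega.gen
  split
  next h =>
    have := List.all_eq_true.1 h1 j (List.mem_range.2 h)
    rw [beq_iff_eq] at this
    rw [this, ω.mat_monoC, ω.mat_mono]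
  next h =>
    split
    next h' =>
      have := List.all_eq_true.1 h2 (j - 5) (List.mem_range.2 (by omega))
      rw [beq_iff_eq, show 5 + (j - 5) = j by omega] at this
      rw [this, ω.mat_monoC, ω.mat_mono]
    next h' =>
      obtain rfl : j = 9 := by omega
      exact ω.mat_five

theorem Omega.gen_mem (j : ℕ) : ω.gen j ∈ ω.kSub 0 := by
  rw [ω.kSub_zero]
  by_cases h : j < 9
  · exact Subgroup.mem_sup_left (ω.gen_mem_monoAlt h)
  · have : ω.gen j = ω.five := by unfold Omega.gen; rw [dif_neg (by omega), if_neg h]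
    rw [this]
    exact Subgroup.mem_sup_right (Subgroup.mem_zpowers _)

theorem Omega.kSub_zero_le {X : Subgroup (Cfsg.SU 6 F 2)} (h : ∀ j < 10, ω.gen j ∈ X) : ω.kSub 0 ≤ X := by
  rw [ω.kSub_zero, sup_le_iff, Subgroup.zpowers_le]
  refine ⟨ω.monoAlt_le_of_gens (fun k hk => ?_) (fun k hk => ?_), ?_⟩
  · have := h k (by omega)
    rwa [Omega.gen, dif_pos hk] at this
  · have := h (5 + k) (by omega)
    rw [Omega.gen, dif_neg (by omega), if_pos (by omega)] at this
    show ω.mono 0 _ (cycGen k) ∈ X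
    simpa using this
  · exact h 9 (by norm_num)

/-! ### Frames and lines -/

/-- A vector of a frame. -/
def Omega.fvec (a : Fin 112) (k : Fin 6) : Fin 6 → F := fun i => ω.val ((fvecC a k).getD i 0)

/-- `g` maps frame `a` into frame `b`. -/
def Omega.FrameMaps (g : Cfsg.SU 6 F 2) (a b : Fin 112) : Prop :=
  ∀ k, ∃ l, ∃ x : F, matOf g *ᵥ ω.fvec a k = x • ω.fvec b l

theorem Omega.frameMaps_one (a : Fin 112) : ω.FrameMaps 1 a a := fun k =>
  ⟨k, 1, by rw [matOf_one, Matrix.one_mulVec, one_smul]⟩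

theorem Omega.frameMaps_mul {g h : Cfsg.SU 6 F 2} {a b c : Fin 112} (h1 : ω.FrameMaps h a b)
    (h2 : ω.FrameMaps g b c) : ω.FrameMaps (g * h) a c := by
  intro k
  obtain ⟨l, x, hl⟩ := h1 k
  obtain ⟨m, y, hm⟩ := h2 l
  exact ⟨m, x * y, by rw [matOf_mul, ← Matrix.mulVec_mulVec, hl, Matrix.mulVec_smul, hm, smul_smul]⟩

theorem Omega.mat_mulVec_code (A v : List ℕ) :
    ω.mat A *ᵥ (fun i : Fin 6 => ω.val (v.getD i 0)) = fun i : Fin 6 => ω.val ((mvC A v).getD i 0) := by
  funext i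
  rw [Matrix.mulVec, dotProduct, Fin.sum_univ_six]
  simp [Omega.mat, mvC, List.getD_eq_getElem?_getD, List.getElem?_map, List.getElem?_range, i.2,
    ω.val_add, ω.val_mul]
  ring

theorem fvec_lt : ∀ a < 112, ∀ k < 6, ∀ i < 6, (fvecC a k).getD i 0 < 4 := by decide +kernel

theorem mulC_lt (a b : ℕ) : mulC a b < 4 :=
  (by decide +kernel : ∀ x < 16, ([0, 0, 0, 0, 0, 1, 2, 3, 0, 2, 3, 1, 0, 3, 1, 2] : List ℕ).getD x 0 < 4)
    _ (by omega)

theorem Omega.propC_false {u v : List ℕ} (h : propC u v = false) (x : F) :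
    (fun i : Fin 6 => ω.val (u.getD i 0)) ≠ x • fun i : Fin 6 => ω.val (v.getD i 0) := by
  intro e
  rw [Bool.eq_false_iff] at h
  apply h
  simp only [propC, List.all_eq_true, List.mem_range, beq_iff_eq]
  intro i hi j hj
  refine ω.val_inj (mulC_lt _ _) (mulC_lt _ _) ?_
  rw [ω.val_mul, ω.val_mul]
  have e1 := congrFun e ⟨i, hi⟩
  have e2 := congrFun e ⟨j, hj⟩
  simp only [Pi.smul_apply, smul_eq_mul] at e1 e2
  rw [e1, e2]; ring

theorem Omega.smul_of_propC {u v : List ℕ} (h : propC u v = true) {j : ℕ} (hj : j < 6)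
    (hv : ω.val (v.getD j 0) ≠ 0) :
    ∃ x : F, (fun i : Fin 6 => ω.val (u.getD i 0)) = x • fun i : Fin 6 => ω.val (v.getD i 0) := by
  simp only [propC, List.all_eq_true, List.mem_range, beq_iff_eq] at h
  refine ⟨ω.val (u.getD j 0) / ω.val (v.getD j 0), funext fun i => ?_⟩
  rw [Pi.smul_apply, smul_eq_mul, div_mul_eq_mul_div, eq_div_iff hv, ← ω.val_mul, ← ω.val_mul, h i i.2 j hj]

theorem Omega.frame_unique {a b : Fin 112} (h : ω.FrameMaps 1 a b) : a = b := by
  by_contra hne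
  have hc := List.all_eq_true.1 (List.all_eq_true.1 frames_distinct a.1 (List.mem_range.2 a.2))
    b.1 (List.mem_range.2 b.2)
  simp only [Bool.or_eq_true, beq_iff_eq, Fin.val_inj, hne, false_or, List.any_eq_true, List.all_eq_true,
    List.mem_range, Bool.not_eq_eq_eq_not, Bool.not_true] at hc
  obtain ⟨k, hk, hl⟩ := hc
  obtain ⟨l, x, e⟩ := h ⟨k, hk⟩
  rw [matOf_one, Matrix.one_mulVec] at e
  exact ω.propC_false (hl l l.2) x e

theorem Omega.fvec_zero (k : Fin 6) : ω.fvec 0 k = Pi.single k 1 := by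
  funext i
  have h := List.all_eq_true.1 (List.all_eq_true.1 frame_zero k.1 (List.mem_range.2 k.2)) i.1
    (List.mem_range.2 i.2)
  rw [beq_iff_eq] at h
  simp only [Omega.fvec, Fin.val_zero, h]
  by_cases e : i = k
  · subst e; rw [if_pos rfl, ω.val_one, Pi.single_eq_same]
  · rw [if_neg (fun e' => e (Fin.ext e')), ω.val_zero, Pi.single_eq_of_ne e]

theorem Omega.monoFull_of_fix {g : Cfsg.SU 6 F 2} (h : ω.FrameMaps g 0 0) : g ∈ ω.monoFull := by
  choose π hπ using h
  choose x hx using hπ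
  have hsupp : ∀ i j, matOf g i j ≠ 0 → π j = i := by
    intro i j hij
    by_contra hne
    apply hij
    have := congrFun (hx j) i
    rw [ω.fvec_zero, ω.fvec_zero, Matrix.mulVec_single_one, Pi.smul_apply, Matrix.col_apply,
      Pi.single_eq_of_ne (Ne.symm hne), smul_zero] at this
    exact this
  have hs : Function.Surjective π := by
    intro i
    by_contra hcon
    push Not at hcon
    have h0 := Matrix.det_eq_zero_of_row_eq_zero (A := matOf g) i
      fun j => of_not_not fun e => hcon j (hsupp i j e)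
    rw [(g : Matrix.SpecialLinearGroup (Fin 6) F).2] at h0
    exact one_ne_zero h0
  obtain ⟨v, hv⟩ := ω.mono_of_support (Equiv.ofBijective π ⟨Finite.injective_iff_surjective.2 hs, hs⟩) hsupp
  exact ⟨v, _, trivial, hv⟩

theorem Omega.mono_fix_zero {g : Cfsg.SU 6 F 2} (h : g ∈ ω.monoFull) : ω.FrameMaps g 0 0 := by
  obtain ⟨v, π, -, hg⟩ := h
  refine fun k => ⟨π k, ω.cube (v (π k)), funext fun i => ?_⟩
  rw [hg, ω.fvec_zero, ω.fvec_zero, Matrix.mulVec_single_one, Pi.smul_apply, Matrix.col_apply]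
  by_cases e : i = π k
  · subst e; rw [ω.monoMat_apply, Pi.single_eq_same, smul_eq_mul, mul_one]
  · rw [Pi.single_eq_of_ne e, smul_zero]
    simp [Omega.monoMat, Ne.symm e]

theorem Omega.mem_center_of_frames {g : Cfsg.SU 6 F 2} (h : ∀ a, ω.FrameMaps g a a) :
    g ∈ Subgroup.center (Cfsg.SU 6 F 2) := by
  classical
  obtain ⟨v, π, -, hg⟩ := ω.monoFull_of_fix (h 0)
  have hval : ∀ (a : Fin 112) (k i : Fin 6),
      (matOf g *ᵥ ω.fvec a k) (π i) = ω.cube (v (π i)) * ω.fvec a k i := by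
    intro a k i
    rw [hg, Matrix.mulVec, dotProduct, Finset.sum_eq_single i]
    · rw [ω.monoMat_apply]
    · intro b _ hb; simp [Omega.monoMat, hb]
    · simp
  have hz : ∀ (a : Fin 112) (k i : Fin 6), decide ((fvecC a k).getD i 0 = 0) = decide (ω.fvec a k i = 0) := by
    intro a k i
    exact decide_eq_decide.2 ⟨fun e => by show ω.val _ = 0; rw [e, ω.val_zero],
      fun e => ω.val_inj (fvec_lt a a.2 k k.2 i i.2) (by norm_num) (Eq.trans e ω.val_zero.symm)⟩
  have hne : ∀ (a : Fin 112) (k : Fin 6), matOf g *ᵥ ω.fvec a k ≠ 0 := by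
    intro a k e
    have h0 := List.all_eq_true.1 (List.all_eq_true.1 frames_nonzero a.1 (List.mem_range.2 a.2)) k.1
      (List.mem_range.2 k.2)
    simp only [List.any_eq_true, List.mem_range, Bool.and_eq_true, bne_iff_ne, decide_eq_true_eq] at h0
    obtain ⟨i, hi, h4, hi0⟩ := h0
    have := hval a k ⟨i, hi⟩
    rw [e, Pi.zero_apply, eq_comm, mul_eq_zero] at this
    exact hi0 (ω.val_inj h4 (by norm_num) ((this.resolve_left (ω.cube_ne_zero _)).trans ω.val_zero.symm))
  have hπ : π = 1 := by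
    by_contra hπ1
    obtain ⟨a, ha, k, hk⟩ := frames_perm π hπ1
    have ha' : a < 112 := (by decide +kernel : ∀ a ∈ sepFrames, a < 112) a ha
    obtain ⟨l, x, hx⟩ := h ⟨a, ha'⟩ k
    obtain ⟨i, hi⟩ := hk l
    apply hi
    rw [hz ⟨a, ha'⟩ k i, hz ⟨a, ha'⟩ l (π i)]
    refine decide_eq_decide.2 ?_
    have hx0 : x ≠ 0 := fun e => hne ⟨a, ha'⟩ k (by rw [hx, e, zero_smul])
    have e := congrFun hx (π i)
    rw [hval, Pi.smul_apply, smul_eq_mul] at e
    constructor
    · intro e0; rw [e0, mul_zero, eq_comm, mul_eq_zero] at e; exact e.resolve_left hx0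
    · intro e0; rw [e0, mul_zero, mul_eq_zero] at e; exact e.resolve_left (ω.cube_ne_zero _)
  subst hπ
  have hv : ∀ i, v i = v 0 := by
    by_contra hcon
    push Not at hcon
    obtain ⟨a, ha, k, hk⟩ := frames_diag v hcon
    have ha' : a < 112 := (by decide +kernel : ∀ a ∈ sepFrames, a < 112) a ha
    obtain ⟨l, x, hx⟩ := h ⟨a, ha'⟩ k
    apply ω.propC_false (hk l) x
    refine Eq.trans (funext fun i => ?_) hx
    have := hval ⟨a, ha'⟩ k i
    rw [Equiv.Perm.one_apply] at this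
    rw [this, show ω.val ((scaleC v (fvecC a k)).getD i.val 0) = ω.cube (v i) * ω.val ((fvecC a k).getD i.val 0) from ?_]
    · rfl
    · simp [scaleC, List.getD_eq_getElem?_getD, List.getElem?_map, i.2, ω.val_mul, ω.val_cubeC]
  refine Subgroup.mem_center_iff.2 fun y => matOf_injective ?_
  rw [matOf_mul, matOf_mul, hg, show ω.monoMat v 1 = ω.cube (v 0) • 1 from ?_, mul_smul_comm, smul_mul_assoc,
    mul_one, one_mul]
  ext i j
  by_cases hij : i = j
  · subst hij; simp [Omega.monoMat, hv i]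
  · simp [Omega.monoMat, hij, Ne.symm hij]

variable {F9 : Type*} [Field F9]

/-- A row of a line. -/
def lrow (ι : F9) (a : Fin 112) (r : Fin 2) : Fin 4 → F9 := fun i => val9 ι ((lrowC a r).getD i 0)

/-- Membership in a line. -/
def OnSpan (ι : F9) (b : Fin 112) (w : Fin 4 → F9) : Prop := ∃ x y : F9, w = x • lrow ι b 0 + y • lrow ι b 1

/-- `A` maps line `a` into line `b`. -/
def LineMaps (ι : F9) (A : Cfsg.SU 4 F9 3) (a b : Fin 112) : Prop :=
  ∀ w, OnSpan ι a w → OnSpan ι b (matOf A *ᵥ w)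

/-- `g` and `A` move frames and lines alike. -/
def Omega.Compat (ι : F9) (g : Cfsg.SU 6 F 2) (A : Cfsg.SU 4 F9 3) : Prop :=
  ∀ a, ∃ b, ω.FrameMaps g a b ∧ LineMaps ι A a b

variable [Fintype F9]

/-- The pairs moving frames and lines alike. -/
def Omega.graph (ι : F9) : Subgroup (Cfsg.SU 6 F 2 × Cfsg.SU 4 F9 3) :=
  { carrier := {x | ω.Compat ι x.1 x.2}
    one_mem' := fun a => ⟨a, ω.frameMaps_one a, fun w hw => by
      rw [show matOf ((1 : Cfsg.SU 6 F 2 × Cfsg.SU 4 F9 3)).2 = 1 from rfl, Matrix.one_mulVec]; exact hw⟩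
    mul_mem' := fun {x y} hx hy a => by
      obtain ⟨b, h1, h2⟩ := hy a
      obtain ⟨c, h3, h4⟩ := hx b
      refine ⟨c, ω.frameMaps_mul h1 h3, fun w hw => ?_⟩
      rw [show matOf (x * y).2 = matOf x.2 * matOf y.2 from rfl, ← Matrix.mulVec_mulVec]
      exact h4 _ (h2 _ hw)
    inv_mem' := fun {x} hx => by
      have hp : ∀ n : ℕ, ω.Compat ι (x ^ n).1 (x ^ n).2 := fun n => by
        induction n with
        | zero =>
          exact fun a => ⟨a, ω.frameMaps_one a, fun w hw => by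
            rw [show matOf ((x ^ 0)).2 = 1 from rfl, Matrix.one_mulVec]; exact hw⟩
        | succ n ih =>
          intro a
          rw [pow_succ]
          obtain ⟨b, h1, h2⟩ := hx a
          obtain ⟨c, h3, h4⟩ := ih b
          refine ⟨c, ω.frameMaps_mul h1 h3, fun w hw => ?_⟩
          rw [show matOf (x ^ n * x).2 = matOf (x ^ n).2 * matOf x.2 from rfl, ← Matrix.mulVec_mulVec]
          exact h4 _ (h2 _ hw)
      have hpos := orderOf_pos x
      have : x⁻¹ = x ^ (orderOf x - 1) := inv_eq_of_mul_eq_one_left (by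
        rw [← pow_succ, Nat.sub_add_cancel hpos, pow_orderOf_eq_one])
      rw [Set.mem_ofPred_eq, this]
      exact hp _ }

variable [CharP F9 3] {ι : F9}

omit [Fintype F9] in
theorem onSpan_of_inLineC (hι : ι ^ 2 = -1) {b : Fin 112} {w : List ℕ} (h : inLineC b w = true) :
    OnSpan ι b fun i : Fin 4 => val9 ι (w.getD i 0) := by
  simp only [inLineC, List.all_eq_true, List.mem_range, beq_iff_eq] at h
  refine ⟨val9 ι (w.getD (lpivC b 0) 0), val9 ι (w.getD (lpivC b 1) 0), funext fun i => ?_⟩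
  rw [h i i.2, val9_addF, val9_mulF hι, val9_mulF hι]
  rfl

theorem line_lt : ∀ b < 112, ∀ r < 2, ∀ i < 4, (lrowC b r).getD i 0 < 9 := by decide +kernel

omit [Fintype F9] in
theorem val9_inj (hι : ι ^ 2 = -1) {a b : ℕ} (ha : a < 9) (hb : b < 9) (h : val9 ι a = val9 ι b) : a = b := by
  by_contra hne
  obtain ⟨c, hc⟩ := (by decide +kernel : ∀ a < 9, ∀ b < 9, a ≠ b → ∃ c : Fin 9, mulF (addF a (negF b)) c.val = 1)
    a ha b hb hne
  have := congrArg (val9 ι) hc
  rw [val9_mulF hι, val9_addF, val9_negF hι, h, add_neg_cancel, zero_mul, val9_one] at this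
  exact zero_ne_one this

omit [Fintype F9] in
theorem line_unique (hι : ι ^ 2 = -1) {a b : Fin 112} (h : ∀ r, OnSpan ι b (lrow ι a r)) : a = b := by
  by_contra hne
  have hc := List.all_eq_true.1 (List.all_eq_true.1 lines_distinct a.1 (List.mem_range.2 a.2))
    b.1 (List.mem_range.2 b.2)
  simp only [Bool.or_eq_true, beq_iff_eq, Fin.val_inj, hne, false_or, Bool.not_eq_eq_eq_not,
    Bool.not_true] at hc
  have he := List.all_eq_true.1 lines_echelon b.1 (List.mem_range.2 b.2)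
  simp only [List.all_eq_true, List.mem_range, Bool.and_eq_true, beq_iff_eq, decide_eq_true_eq] at he
  have hr : ∀ r : Fin 2, inLineC b (lrowC a r) = true := by
    intro r
    obtain ⟨x, y, hxy⟩ := h r
    have p0 := congrFun hxy ⟨lpivC b 0, (he 0 (by norm_num) 0 (by norm_num)).2⟩
    have p1 := congrFun hxy ⟨lpivC b 1, (he 0 (by norm_num) 1 (by norm_num)).2⟩
    simp only [lrow, Pi.add_apply, Pi.smul_apply, smul_eq_mul, Fin.val_zero, Fin.val_one,
      (he 0 (by norm_num) 0 (by norm_num)).1, (he 1 (by norm_num) 0 (by norm_num)).1,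
      (he 0 (by norm_num) 1 (by norm_num)).1, (he 1 (by norm_num) 1 (by norm_num)).1] at p0 p1
    norm_num [val9_zero, val9_one, -List.getD_eq_getElem?_getD] at p0 p1
    simp only [inLineC, List.all_eq_true, List.mem_range, beq_iff_eq]
    intro i hi
    refine val9_inj hι (line_lt a a.2 r r.2 i hi) (addF_lt _ _) ?_
    rw [val9_addF, val9_mulF hι, val9_mulF hι, p0, p1]
    exact congrFun hxy ⟨i, hi⟩
  rcases hc with hc | hc
  · rw [← Fin.val_zero 2, hr 0] at hc; exact Bool.noConfusion hc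
  · rw [← Fin.val_one 0, hr 1] at hc; exact Bool.noConfusion hc

omit [Fintype F9] in
theorem mat4_mulVec (hι : ι ^ 2 = -1) (A : List (List ℕ)) (v : List ℕ) :
    mat4 ι A *ᵥ (fun i : Fin 4 => val9 ι (v.getD i 0)) = fun i : Fin 4 => val9 ι ((mv9C A v).getD i 0) := by
  funext i
  rw [Matrix.mulVec, dotProduct, Fin.sum_univ_four]
  simp [mat4, mv9C, List.getD_eq_getElem?_getD, List.getElem?_map, List.getElem?_range, i.2, val9_addF,
    val9_mulF hι]
  ring

variable (hι : ι ^ 2 = -1) (hF9 : Fintype.card F9 = 9)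
include hι hF9

theorem Omega.gen_compat {j : ℕ} (hj : j < 10) : ∃ A : Cfsg.SU 4 F9 3, (ω.gen j, A) ∈ ω.graph ι := by
  have h4 := List.all_eq_true.1 four_ok j (List.mem_range.2 hj)
  simp only [Bool.and_eq_true, beq_iff_eq, decide_eq_true_eq] at h4
  obtain ⟨A, hA⟩ := exists_elt hι hF9 h4.2 h4.1.1 h4.1.2
  refine ⟨A, fun a => ?_⟩
  have hc := List.all_eq_true.1 (List.all_eq_true.1 compat_ok j (List.mem_range.2 hj)) a.1 (List.mem_range.2 a.2)
  simp only [Bool.and_eq_true, decide_eq_true_eq, List.all_eq_true, List.any_eq_true, List.mem_range] at hc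
  obtain ⟨⟨hb, hf⟩, hl⟩ := hc
  refine ⟨⟨_, hb⟩, fun k => ?_, fun w hw => ?_⟩
  · obtain ⟨l, hl', hp⟩ := hf k k.2
    have hn := List.all_eq_true.1 (List.all_eq_true.1 frames_nonzero _ (List.mem_range.2 hb)) l
      (List.mem_range.2 hl')
    simp only [List.any_eq_true, List.mem_range, Bool.and_eq_true, bne_iff_ne, decide_eq_true_eq] at hn
    obtain ⟨i, hi, h4', hi0⟩ := hn
    obtain ⟨x, hx⟩ := ω.smul_of_propC hp hi fun e =>
      hi0 (ω.val_inj h4' (by norm_num) (e.trans ω.val_zero.symm))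
    refine ⟨⟨l, hl'⟩, x, ?_⟩
    show matOf (ω.gen j) *ᵥ ω.fvec a k = _
    rw [ω.mat_gen hj]
    exact (ω.mat_mulVec_code _ _).trans hx
  · obtain ⟨x, y, rfl⟩ := hw
    have hA' : matOf A = mat4 ι (fourC.getD j []) := hA
    obtain ⟨x0, y0, e0⟩ := onSpan_of_inLineC hι (b := ⟨_, hb⟩) (hl 0 (by norm_num))
    obtain ⟨x1, y1, e1⟩ := onSpan_of_inLineC hι (b := ⟨_, hb⟩) (hl 1 (by norm_num))
    rw [← mat4_mulVec hι] at e0 e1
    refine ⟨x * x0 + y * x1, x * y0 + y * y1, ?_⟩
    show matOf A *ᵥ (x • lrow ι a 0 + y • lrow ι a 1) = _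
    rw [hA', Matrix.mulVec_add, Matrix.mulVec_smul, Matrix.mulVec_smul,
      show lrow ι a 0 = fun i : Fin 4 => val9 ι ((lrowC a 0).getD i 0) from rfl,
      show lrow ι a 1 = fun i : Fin 4 => val9 ι ((lrowC a 1).getD i 0) from rfl, e0, e1,
      smul_add, smul_add, smul_smul, smul_smul, smul_smul, smul_smul, add_smul, add_smul]
    abel

/-- The first projection. -/
def Omega.projSix (ω : Omega F) (ι : F9) : ω.graph ι →* Cfsg.SU 6 F 2 :=
  (MonoidHom.fst _ _).comp (ω.graph ι).subtype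

/-- The projection to `PSU (4, 3)`. -/
def Omega.projFour (ω : Omega F) (ι : F9) : ω.graph ι →* Cfsg.PSU 4 F9 3 :=
  ((QuotientGroup.mk' _).comp (MonoidHom.snd _ _)).comp (ω.graph ι).subtype

theorem Omega.kSub_zero_le_range : ω.kSub 0 ≤ (ω.projSix ι).range := by
  refine ω.kSub_zero_le fun j hj => ?_
  obtain ⟨A, hA⟩ := ω.gen_compat hι hF9 hj
  exact ⟨⟨(ω.gen j, A), hA⟩, rfl⟩

theorem Omega.ker_four_le :
    (ω.projFour ι).ker ≤ ((QuotientGroup.mk' (Subgroup.center (Cfsg.SU 6 F 2))).comp (ω.projSix ι)).ker := by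
  rintro ⟨⟨g, A⟩, hgA⟩ hk
  simp only [Omega.projFour, Omega.projSix, MonoidHom.mem_ker, MonoidHom.comp_apply, Subgroup.coe_subtype,
    MonoidHom.coe_fst, MonoidHom.coe_snd, QuotientGroup.mk'_apply, QuotientGroup.eq_one_iff] at hk ⊢
  haveI : Fact (Nat.Prime 3) := ⟨by norm_num⟩
  obtain ⟨c, hc⟩ := CfsgLib.UnitOrders.scalar_of_mem_center (τ := frobenius F9 3) (fun x => rfl)
    (by rw [hF9]; norm_num) (by norm_num) hk
  change matOf A = c • 1 at hc
  have hc0 : c ≠ 0 := by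
    intro e
    have := (A : Matrix.SpecialLinearGroup (Fin 4) F9).2
    rw [show ((A : Matrix.SpecialLinearGroup (Fin 4) F9) : Matrix _ _ F9) = matOf A from rfl, hc, e, zero_smul,
      Matrix.det_zero] at this
    exact zero_ne_one this
  refine ω.mem_center_of_frames fun a => ?_
  obtain ⟨b, hb, hl⟩ := hgA a
  have hab : a = b := line_unique hι fun r => by
    have hr : OnSpan ι a (lrow ι a r) := by
      fin_cases r
      · exact ⟨1, 0, by rw [one_smul, zero_smul, add_zero]; rfl⟩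
      · exact ⟨0, 1, by rw [one_smul, zero_smul, zero_add]; rfl⟩
    obtain ⟨x, y, e⟩ := hl _ hr
    refine ⟨c⁻¹ * x, c⁻¹ * y, ?_⟩
    rw [show matOf ((g, A) : Cfsg.SU 6 F 2 × Cfsg.SU 4 F9 3).2 = matOf A from rfl, hc, Matrix.smul_mulVec,
      Matrix.one_mulVec] at e
    rw [← smul_smul, ← smul_smul, ← smul_add, ← e, smul_smul, inv_mul_cancel₀ hc0, one_smul]
  rw [← hab] at hb
  exact hb

end CfsgLib.SixTwo
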