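import Cfsg.Agent.SixTwo.Field
import Cfsg.Agent.UnitOrders.Witness
import Cfsg.Agent.S0279
import Cfsg.Agent.S0280

/-!
The monomial subgroup `3^5:S6` of `SU (6, 2)`, the abelian subgroup `D = 3^5`, the Sylow subgroup
`P = D:3^2`, and their properties modulo the centre.
-/

set_option autoImplicit false

namespace CfsgLib.SixTwo

open Matrix

local notation "V6" => Fin 6 → ZMod 3

variable {F : Type*} [Field F] [Fintype F] (ω : Omega F)

include ω in
theorem Omega.pow_three : ω.w ^ 3 = 1 := by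
  linear_combination (ω.w + 1) * ω.sq + ω.w * ω.two

/-- A cube root of unity by its exponent. -/
def Omega.cube (k : ZMod 3) : F := ω.w ^ k.val

theorem Omega.cube_zero : ω.cube 0 = 1 := pow_zero _

theorem Omega.cube_add (a b : ZMod 3) : ω.cube (a + b) = ω.cube a * ω.cube b := by
  unfold Omega.cube
  rw [ZMod.val_add, ← pow_add]
  conv_rhs => rw [← Nat.div_add_mod (a.val + b.val) 3, pow_add, pow_mul, ω.pow_three, one_pow, one_mul]

theorem Omega.cube_ne_zero (k : ZMod 3) : ω.cube k ≠ 0 := fun h => by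
  have := ω.cube_add k (-k)
  rw [add_neg_cancel, ω.cube_zero, h, zero_mul] at this
  exact one_ne_zero this

/-- The code of a cube root of unity. -/
def cubeC (k : ZMod 3) : ℕ := k.val + 1

theorem Omega.val_cubeC (k : ZMod 3) : ω.val (cubeC k) = ω.cube k := by
  fin_cases k
  · show ω.val 1 = ω.w ^ 0
    rw [pow_zero]; rfl
  · show ω.val 2 = ω.w ^ 1
    rw [pow_one]; rfl
  · show ω.w + 1 = ω.w ^ 2
    linear_combination -ω.sq

theorem Omega.cube_inj {a b : ZMod 3} (h : ω.cube a = ω.cube b) : a = b := by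
  rw [← ω.val_cubeC, ← ω.val_cubeC] at h
  have := ω.val_inj (by have := a.val_lt; unfold cubeC; omega) (by have := b.val_lt; unfold cubeC; omega) h
  exact ZMod.val_injective 3 (by unfold cubeC at this; omega)

theorem Omega.exists_cube {x : F} (hx : x ≠ 0) : ∃ k, ω.cube k = x := by
  obtain ⟨a, ha, rfl⟩ := ω.val_surjective x
  interval_cases a
  · exact absurd ω.val_zero hx
  · exact ⟨0, by rw [← ω.val_cubeC]; rfl⟩
  · exact ⟨1, by rw [← ω.val_cubeC]; rfl⟩
  · exact ⟨2, by rw [← ω.val_cubeC]; rfl⟩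

/-- A monomial matrix. -/
def Omega.monoMat (v : V6) (π : Equiv.Perm (Fin 6)) : Matrix (Fin 6) (Fin 6) F :=
  Matrix.of fun i j => if π j = i then ω.cube (v i) else 0

theorem Omega.monoMat_apply (v : V6) (π : Equiv.Perm (Fin 6)) (j : Fin 6) :
    ω.monoMat v π (π j) j = ω.cube (v (π j)) := by simp [Omega.monoMat]

theorem Omega.monoMat_mul (v v' : V6) (π π' : Equiv.Perm (Fin 6)) :
    ω.monoMat v π * ω.monoMat v' π' = ω.monoMat (fun i => v i + v' (π⁻¹ i)) (π * π') := by
  ext i k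
  rw [Matrix.mul_apply, Finset.sum_eq_single (π⁻¹ i)]
  · simp only [Omega.monoMat, Matrix.of_apply, Equiv.Perm.mul_apply, Equiv.Perm.inv_def, Equiv.apply_symm_apply,
      if_true]
    by_cases h : π' k = π.symm i
    · have he : π (π' k) = i := by rw [h]; exact π.apply_symm_apply i
      rw [if_pos h]
      simp [he, ω.cube_add]
    · have he : ¬ π (π' k) = i := fun e => h (by rw [← e]; exact (π.symm_apply_apply _).symm)
      rw [if_neg h]
      simp [he]
  · intro j _ hj
    simp only [Omega.monoMat, Matrix.of_apply]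
    rw [if_neg (fun e => hj (by rw [← e]; exact (π.symm_apply_apply _).symm)), zero_mul]
  · simp

theorem Omega.monoMat_one : ω.monoMat 0 1 = 1 := by
  ext i j
  simp [Omega.monoMat, Matrix.one_apply, ω.cube_zero, eq_comm]

theorem Omega.monoMat_inj {v v' : V6} {π π' : Equiv.Perm (Fin 6)}
    (h : ω.monoMat v π = ω.monoMat v' π') : v = v' ∧ π = π' := by
  have hπ : π = π' := Equiv.ext fun j => by
    by_contra hne
    have := congrFun (congrFun h (π j)) j
    rw [ω.monoMat_apply] at this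
    simp [Omega.monoMat, Ne.symm hne, ω.cube_ne_zero] at this
  subst hπ
  refine ⟨funext fun i => ω.cube_inj ?_, rfl⟩
  have := congrFun (congrFun h i) (π⁻¹ i)
  simpa [Omega.monoMat] using this

include ω in
theorem Omega.det_monoMat (v : V6) (π : Equiv.Perm (Fin 6)) :
    (ω.monoMat v π).det = ω.cube (∑ i, v i) := by
  have e : ω.monoMat v π = Matrix.diagonal (fun i => ω.cube (v i)) * (π⁻¹).permMatrix F := by
    ext i j
    rw [Matrix.diagonal_mul]
    simp only [Omega.monoMat, Matrix.of_apply, PEquiv.toMatrix_apply, Equiv.toPEquiv_apply, Option.mem_def,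
      Option.some.injEq]
    by_cases h : π j = i
    · rw [if_pos h, if_pos (by rw [← h]; exact π.symm_apply_apply j), mul_one]
    · rw [if_neg h, if_neg (fun e => h (by rw [← e]; exact π.apply_symm_apply i)), mul_zero]
  have hs : ∀ s : Finset (Fin 6), ∏ i ∈ s, ω.cube (v i) = ω.cube (∑ i ∈ s, v i) := by
    intro s
    induction s using Finset.induction with
    | empty => simp [ω.cube_zero]
    | insert a s ha ih => rw [Finset.prod_insert ha, Finset.sum_insert ha, ih, ω.cube_add]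
  rw [e, Matrix.det_mul, Matrix.det_diagonal, Matrix.det_permutation, hs]
  rcases Int.units_eq_one_or (Equiv.Perm.sign π⁻¹) with h | h
  · rw [h]; simp
  · rw [h]
    haveI := ω.charP
    simp [CharTwo.neg_eq]

theorem Omega.monoMat_unitary (v : V6) (π : Equiv.Perm (Fin 6)) :
    (ω.monoMat v π)ᵀ.map (· ^ 2) * ω.monoMat v π = 1 := by
  ext i k
  rw [Matrix.mul_apply, Finset.sum_eq_single (π k)]
  · simp only [Matrix.map_apply, Matrix.transpose_apply, Omega.monoMat, Matrix.of_apply, if_true,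
      EmbeddingLike.apply_eq_iff_eq, Matrix.one_apply]
    by_cases h : i = k
    · subst h
      rw [if_pos rfl, if_pos rfl, ← pow_succ, Omega.cube, ← pow_mul, mul_comm, pow_mul, ω.pow_three, one_pow]
    · rw [if_neg h, if_neg h]; ring
  · intro j _ hj
    simp [Omega.monoMat, Ne.symm hj]
  · simp

/-- The monomial member. -/
def Omega.mono (v : V6) (hv : ∑ i, v i = 0) (π : Equiv.Perm (Fin 6)) : Cfsg.SU 6 F 2 :=
  ⟨⟨ω.monoMat v π, by rw [ω.det_monoMat, hv, ω.cube_zero]⟩,
    fun a b => ω.preserves (ω.monoMat_unitary v π) a b⟩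

theorem Omega.mat_mono (v : V6) (hv : ∑ i, v i = 0) (π : Equiv.Perm (Fin 6)) :
    matOf (ω.mono v hv π) = ω.monoMat v π := rfl

include ω in
theorem Omega.sum_eq_zero {g : Cfsg.SU 6 F 2} {v : V6} {π : Equiv.Perm (Fin 6)}
    (h : matOf g = ω.monoMat v π) : ∑ i, v i = 0 := by
  apply ω.cube_inj
  rw [← ω.det_monoMat v π, ← h, ω.cube_zero]
  exact (g : Matrix.SpecialLinearGroup (Fin 6) F).2

theorem sum_shift (v v' : V6) (π : Equiv.Perm (Fin 6)) :
    ∑ i, (v i + v' (π⁻¹ i)) = (∑ i, v i) + ∑ i, v' i := by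
  rw [Finset.sum_add_distrib, Equiv.sum_comp π⁻¹ v']

/-- The monomial subgroup over a group of permutations. -/
def Omega.monoSub (S : Subgroup (Equiv.Perm (Fin 6))) : Subgroup (Cfsg.SU 6 F 2) where
  carrier := {g | ∃ v π, π ∈ S ∧ matOf g = ω.monoMat v π}
  one_mem' := ⟨0, 1, one_mem _, by rw [matOf_one, ω.monoMat_one]⟩
  mul_mem' := by
    rintro g h ⟨v, π, hπ, hg⟩ ⟨v', π', hπ', hh⟩
    exact ⟨_, π * π', mul_mem hπ hπ', by rw [matOf_mul, hg, hh, ω.monoMat_mul]⟩
  inv_mem' := by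
    rintro g ⟨v, π, hπ, hg⟩
    have h1 : ∑ i, (fun i => -v (π i)) i = 0 := by
      rw [Finset.sum_neg_distrib, Equiv.sum_comp π v, ω.sum_eq_zero hg, neg_zero]
    have e : g * ω.mono _ h1 π⁻¹ = 1 := matOf_injective (by
      rw [matOf_mul, ω.mat_mono, hg, ω.monoMat_mul, matOf_one, ← ω.monoMat_one, mul_inv_cancel]
      congr 1
      funext i
      simp)
    exact ⟨_, π⁻¹, inv_mem hπ, by rw [← eq_inv_of_mul_eq_one_right e]; rfl⟩

theorem Omega.mem_monoSub {S : Subgroup (Equiv.Perm (Fin 6))} {g : Cfsg.SU 6 F 2} :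
    g ∈ ω.monoSub S ↔ ∃ v π, π ∈ S ∧ matOf g = ω.monoMat v π := Iff.rfl

theorem Omega.mono_mem {S : Subgroup (Equiv.Perm (Fin 6))} (v : V6) (hv : ∑ i, v i = 0)
    {π : Equiv.Perm (Fin 6)} (hπ : π ∈ S) : ω.mono v hv π ∈ ω.monoSub S := ⟨v, π, hπ, rfl⟩

theorem Omega.monoSub_le {S T : Subgroup (Equiv.Perm (Fin 6))} (h : S ≤ T) : ω.monoSub S ≤ ω.monoSub T :=
  fun _ ⟨v, π, hπ, hg⟩ => ⟨v, π, h hπ, hg⟩

theorem card_zeroSum : Nat.card {v : V6 // ∑ i, v i = 0} = 243 := by
  rw [Nat.card_eq_fintype_card]; decide +kernel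

theorem Omega.card_monoSub (S : Subgroup (Equiv.Perm (Fin 6))) :
    Nat.card (ω.monoSub S) = 243 * Nat.card S := by
  rw [← card_zeroSum, ← Nat.card_prod]
  refine (Nat.card_congr (Equiv.ofBijective (fun x => ⟨ω.mono x.1.1 x.1.2 x.2.1, ω.mono_mem _ _ x.2.2⟩)
    ⟨fun x y e => ?_, ?_⟩)).symm
  · obtain ⟨h1, h2⟩ := ω.monoMat_inj (congrArg matOf (congrArg Subtype.val e))
    exact Prod.ext (Subtype.ext h1) (Subtype.ext h2)
  · rintro ⟨g, v, π, hπ, hg⟩
    exact ⟨(⟨v, ω.sum_eq_zero hg⟩, ⟨π, hπ⟩), Subtype.ext (matOf_injective hg.symm)⟩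

/-- The diagonal group `3^5`. -/
def Omega.diagSub : Subgroup (Cfsg.SU 6 F 2) := ω.monoSub ⊥

/-- The full monomial group. -/
def Omega.monoFull : Subgroup (Cfsg.SU 6 F 2) := ω.monoSub ⊤

/-- The index two subgroup `3^5:A6`. -/
def Omega.monoAlt : Subgroup (Cfsg.SU 6 F 2) := ω.monoSub (alternatingGroup (Fin 6))

/-- The permutation `(0 1 2)^a (3 4 5)^b`. -/
def pairPerm (a b : ZMod 3) : Equiv.Perm (Fin 6) :=
  (Equiv.swap 0 1 * Equiv.swap 1 2) ^ a.val * (Equiv.swap 3 4 * Equiv.swap 4 5) ^ b.val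

theorem pairPerm_mul : ∀ a b c d : ZMod 3, pairPerm a b * pairPerm c d = pairPerm (a + c) (b + d) := by
  decide +kernel

/-- The group of nine permutations. -/
def pairGroup : Subgroup (Equiv.Perm (Fin 6)) where
  carrier := {π | ∃ a b, π = pairPerm a b}
  one_mem' := ⟨0, 0, rfl⟩
  mul_mem' := by
    rintro _ _ ⟨a, b, rfl⟩ ⟨c, d, rfl⟩
    exact ⟨_, _, pairPerm_mul a b c d⟩
  inv_mem' := by
    rintro _ ⟨a, b, rfl⟩
    refine ⟨-a, -b, inv_eq_of_mul_eq_one_right ?_⟩
    rw [pairPerm_mul, add_neg_cancel, add_neg_cancel]; rfl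

theorem card_pairGroup : Nat.card pairGroup = 9 := by
  rw [show 9 = Nat.card (ZMod 3 × ZMod 3) by simp]
  refine (Nat.card_congr (Equiv.ofBijective (fun x => ⟨pairPerm x.1 x.2, x.1, x.2, rfl⟩) ⟨?_, ?_⟩)).symm
  · intro x y e
    exact (by decide +kernel : ∀ x y : ZMod 3 × ZMod 3, pairPerm x.1 x.2 = pairPerm y.1 y.2 → x = y) x y
      (congrArg Subtype.val e)
  · rintro ⟨π, a, b, rfl⟩
    exact ⟨(a, b), rfl⟩

/-- The Sylow subgroup `3^5:3^2`. -/
def Omega.syl : Subgroup (Cfsg.SU 6 F 2) := ω.monoSub pairGroup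

theorem pairGroup_le : pairGroup ≤ alternatingGroup (Fin 6) := by
  rintro _ ⟨a, b, rfl⟩
  simp [pairPerm, Equiv.Perm.mem_alternatingGroup, Equiv.Perm.sign_mul]

theorem Omega.syl_le : ω.syl ≤ ω.monoAlt := ω.monoSub_le pairGroup_le

theorem Omega.diag_le_syl : ω.diagSub ≤ ω.syl := ω.monoSub_le bot_le

theorem Omega.card_diagSub : Nat.card ω.diagSub = 243 := by
  rw [Omega.diagSub, ω.card_monoSub, Subgroup.card_bot, mul_one]

theorem Omega.card_syl : Nat.card ω.syl = 2187 := by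
  rw [Omega.syl, ω.card_monoSub, card_pairGroup]

theorem Omega.card_monoAlt : Nat.card ω.monoAlt = 87480 := by
  rw [Omega.monoAlt, ω.card_monoSub, Nat.card_eq_fintype_card, card_alternatingGroup]
  simp [Nat.factorial]

theorem Omega.card_monoFull : Nat.card ω.monoFull = 174960 := by
  rw [Omega.monoFull, ω.card_monoSub, Subgroup.card_top, Nat.card_perm, Nat.card_fin]
  simp [Nat.factorial]

include ω in
/-- A member whose nonzero entries lie on a permutation is monomial. -/
theorem Omega.mono_of_support {g : Cfsg.SU 6 F 2} (π : Equiv.Perm (Fin 6))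
    (h : ∀ i j, matOf g i j ≠ 0 → π j = i) : ∃ v, matOf g = ω.monoMat v π := by
  have hne : ∀ j, matOf g (π j) j ≠ 0 := by
    intro j e
    have h0 : (matOf g).det = 0 := Matrix.det_eq_zero_of_column_eq_zero j fun i => by
      by_contra hi
      obtain rfl := h i j hi
      exact hi e
    rw [(g : Matrix.SpecialLinearGroup (Fin 6) F).2] at h0
    exact one_ne_zero h0
  choose k hk using fun i => ω.exists_cube (hne (π⁻¹ i))
  refine ⟨k, Matrix.ext fun i j => ?_⟩
  by_cases hij : π j = i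
  · subst hij
    rw [ω.monoMat_apply, hk, Equiv.Perm.inv_def, Equiv.symm_apply_apply]
  · simp only [Omega.monoMat, Matrix.of_apply, if_neg hij]
    by_contra hi
    exact hij (h i j hi)

include ω in
/-- The normaliser of the diagonal group is monomial. -/
theorem Omega.mem_monoFull_of_normalises {g : Cfsg.SU 6 F 2}
    (h : ∀ d ∈ ω.diagSub, g * d * g⁻¹ ∈ ω.diagSub) : g ∈ ω.monoFull := by
  have key : ∀ i j k : Fin 6, matOf g i j ≠ 0 → matOf g i k ≠ 0 → j = k := by
    intro i j k hj hk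
    by_contra hne
    obtain ⟨v, hv, hvjk⟩ : ∃ v : V6, (∑ l, v l = 0) ∧ v j ≠ v k :=
      (by decide +kernel : ∀ j k : Fin 6, j ≠ k →
        ∃ l : Fin 6, (∑ t, ((if t = j then (1 : ZMod 3) else 0) - if t = l then 1 else 0) = 0) ∧
          ((if j = j then (1 : ZMod 3) else 0) - if j = l then 1 else 0) ≠
            ((if k = j then (1 : ZMod 3) else 0) - if k = l then 1 else 0)) j k hne |>.elim
        fun l hl => ⟨fun t => (if t = j then 1 else 0) - if t = l then 1 else 0, hl.1, hl.2⟩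
    obtain ⟨v', π, hπ, hd⟩ := h _ (ω.mono_mem (S := ⊥) v hv (one_mem _))
    rw [Subgroup.mem_bot] at hπ
    subst hπ
    have e : matOf g * ω.monoMat v 1 = ω.monoMat v' 1 * matOf g := by
      rw [← hd, ← matOf_mul, inv_mul_cancel_right, matOf_mul]; rfl
    have hh : ∀ l, matOf g i l ≠ 0 → ω.cube (v l) = ω.cube (v' i) := by
      intro l hl
      have h1 := congrFun (congrFun e i) l
      rw [Matrix.mul_apply, Finset.sum_eq_single l, Matrix.mul_apply, Finset.sum_eq_single i] at h1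
      · simp only [Omega.monoMat, Matrix.of_apply, Equiv.Perm.one_apply, if_true] at h1
        exact mul_left_cancel₀ hl (h1.trans (mul_comm _ _))
      · intro b _ hb; simp [Omega.monoMat, hb]
      · simp
      · intro b _ hb; simp [Omega.monoMat, Ne.symm hb]
      · simp
    exact hvjk (ω.cube_inj ((hh j hj).trans (hh k hk).symm))
  have hcol : ∀ j, ∃ i, matOf g i j ≠ 0 := by
    intro j
    by_contra hc
    push Not at hc
    have h0 := Matrix.det_eq_zero_of_column_eq_zero (A := matOf g) j hc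
    rw [(g : Matrix.SpecialLinearGroup (Fin 6) F).2] at h0
    exact one_ne_zero h0
  choose σ hσ using hcol
  have hinj : Function.Injective σ := fun a b e => key (σ a) a b (hσ a) (e ▸ hσ b)
  let π : Equiv.Perm (Fin 6) := Equiv.ofBijective σ hinj.bijective_of_finite
  obtain ⟨v, hv⟩ := ω.mono_of_support π fun i j hij => by
    obtain ⟨l, rfl⟩ := π.surjective i
    exact congrArg π (key (σ l) j l hij (hσ l))
  exact ⟨v, π, trivial, hv⟩

theorem Omega.mono_normalises_diag {g : Cfsg.SU 6 F 2} (hg : g ∈ ω.monoFull) {d : Cfsg.SU 6 F 2}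
    (hd : d ∈ ω.diagSub) : g * d * g⁻¹ ∈ ω.diagSub := by
  obtain ⟨v, π, -, hv⟩ := hg
  obtain ⟨u, σ, hσ, hu⟩ := hd
  rw [Subgroup.mem_bot] at hσ
  subst hσ
  have h0 : ∑ i, (fun i => u (π⁻¹ i)) i = 0 := by
    rw [Equiv.sum_comp π⁻¹ u]; exact ω.sum_eq_zero hu
  have e : g * d = ω.mono _ h0 1 * g := matOf_injective (by
    rw [matOf_mul, matOf_mul, ω.mat_mono, hv, hu, ω.monoMat_mul, ω.monoMat_mul, mul_one, one_mul]
    congr 1
    funext i
    simp [add_comm])
  rw [e, mul_inv_cancel_right]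
  exact ω.mono_mem (S := ⊥) _ h0 (one_mem _)

include ω in
theorem Omega.center_const {g : Cfsg.SU 6 F 2} (hg : g ∈ Subgroup.center (Cfsg.SU 6 F 2)) :
    ∃ k : ZMod 3, matOf g = ω.monoMat (fun _ => k) 1 := by
  haveI := ω.charP
  haveI : Fact (Nat.Prime 2) := ⟨Nat.prime_two⟩
  obtain ⟨c, hc⟩ := CfsgLib.UnitOrders.scalar_of_mem_center (τ := frobenius F 2) (fun x => rfl)
    (by rw [ω.card]; norm_num) (by norm_num) hg
  change matOf g = c • 1 at hc
  have hc0 : c ≠ 0 := by
    intro e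
    have := (g : Matrix.SpecialLinearGroup (Fin 6) F).2
    rw [show ((g : Matrix.SpecialLinearGroup (Fin 6) F) : Matrix _ _ F) = matOf g from rfl, hc, e, zero_smul,
      Matrix.det_zero] at this
    exact zero_ne_one this
  obtain ⟨k, rfl⟩ := ω.exists_cube hc0
  refine ⟨k, hc.trans ?_⟩
  ext i j
  by_cases h : i = j <;> simp [Omega.monoMat, h, Ne.symm, eq_comm]

theorem Omega.center_le : Subgroup.center (Cfsg.SU 6 F 2) ≤ ω.diagSub := fun _ hg => by
  obtain ⟨k, hk⟩ := ω.center_const hg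
  exact ⟨_, 1, one_mem _, hk⟩

include ω in
theorem Omega.card_center : Nat.card (Subgroup.center (Cfsg.SU 6 F 2)) = 3 := by
  rw [Cfsg.Agent.S0279.result (q := 2) (by rw [ω.card]; norm_num) 6 (by norm_num)]; rfl

include ω in
theorem Omega.card_group : Nat.card (Cfsg.SU 6 F 2) = 27590492160 := by
  have h := Cfsg.Agent.S0280.result (F := F) (q := 2) (by rw [ω.card]; norm_num) 6 (by norm_num)
  rw [Subgroup.card_eq_card_quotient_mul_card_subgroup (Subgroup.center (Cfsg.SU 6 F 2)), ω.card_center]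
  norm_num [Finset.prod_range_succ, Nat.even_iff] at h
  change _ * (3 * Nat.card (Cfsg.SU 6 F 2 ⧸ Subgroup.center (Cfsg.SU 6 F 2))) = _ at h
  omega

/-! ### Commuting modulo the centre -/

/-- `u` is moved by `π` to a translate of itself. -/
def ShiftOK (π : Equiv.Perm (Fin 6)) (u : V6) : Prop := ∃ k : ZMod 3, ∀ i, u (π i) = u i + k

instance (π : Equiv.Perm (Fin 6)) (u : V6) : Decidable (ShiftOK π u) := by unfold ShiftOK; infer_instance

theorem shift_bound : ∀ a b : ZMod 3, (a, b) ≠ (0, 0) →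
    (Finset.univ.filter fun u : V6 => (∑ i, u i = 0) ∧ ShiftOK (pairPerm a b) u).card ≤ 27 := by
  decide +kernel

theorem shift_bound_two :
    (Finset.univ.filter fun u : V6 => (∑ i, u i = 0) ∧ ShiftOK (pairPerm 1 0) u ∧ ShiftOK (pairPerm 0 1) u).card ≤ 9 := by
  decide +kernel

/-- Constant on the two blocks. -/
def BlockConst (u : V6) : Prop := u 0 = u 1 ∧ u 1 = u 2 ∧ u 3 = u 4 ∧ u 4 = u 5

instance (u : V6) : Decidable (BlockConst u) := by unfold BlockConst; infer_instance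

theorem shift_block : ∀ u : V6, ShiftOK (pairPerm 1 0) u → ShiftOK (pairPerm 0 1) u → BlockConst u := by
  decide +kernel

include ω in
theorem Omega.shift_of_commute {x d : Cfsg.SU 6 F 2} {v u : V6} {π : Equiv.Perm (Fin 6)}
    (hx : matOf x = ω.monoMat v π) (hd : matOf d = ω.monoMat u 1)
    (h : x * d * x⁻¹ * d⁻¹ ∈ Subgroup.center (Cfsg.SU 6 F 2)) : ShiftOK π u := by
  obtain ⟨k, hk⟩ := ω.center_const h
  refine ⟨-k, fun i => ?_⟩
  have e : x * d = (x * d * x⁻¹ * d⁻¹) * (d * x) := by group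
  have e' := congrArg matOf e
  rw [matOf_mul, matOf_mul (x * d * x⁻¹ * d⁻¹), hk, matOf_mul, hx, hd, ω.monoMat_mul, ω.monoMat_mul,
    ω.monoMat_mul] at e'
  have := congrFun (ω.monoMat_inj e').1 (π i)
  simp only [inv_one, Equiv.Perm.one_apply] at this
  simp only [Equiv.Perm.inv_def, Equiv.symm_apply_apply] at this
  linear_combination -this

include ω in
/-- An element of the Sylow subgroup central modulo the centre is a block constant diagonal element. -/
theorem Omega.central_syl {x : Cfsg.SU 6 F 2} (hx : x ∈ ω.syl)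
    (h : ∀ y ∈ ω.syl, x * y * x⁻¹ * y⁻¹ ∈ Subgroup.center (Cfsg.SU 6 F 2)) :
    ∃ u, BlockConst u ∧ matOf x = ω.monoMat u 1 := by
  classical
  obtain ⟨v, π, ⟨a, b, rfl⟩, hv⟩ := hx
  have hab : (a, b) = (0, 0) := by
    by_contra hne
    have hall : (Finset.univ.filter fun u : V6 => ∑ i, u i = 0) ⊆
        Finset.univ.filter fun u : V6 => (∑ i, u i = 0) ∧ ShiftOK (pairPerm a b) u := by
      intro u hu
      simp only [Finset.mem_filter, Finset.mem_univ, true_and] at hu ⊢
      exact ⟨hu, ω.shift_of_commute hv (ω.mat_mono u hu 1) (h _ (ω.mono_mem _ hu (one_mem _)))⟩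
    have := (Finset.card_le_card hall).trans (shift_bound a b hne)
    rw [show (Finset.univ.filter fun u : V6 => ∑ i, u i = 0).card = 243 by decide +kernel] at this
    omega
  obtain ⟨rfl, rfl⟩ := Prod.mk.injEq .. ▸ hab
  refine ⟨v, ?_, hv⟩
  have hflip : ∀ a b : ZMod 3, ShiftOK (pairPerm a b) v := fun a b =>
    ω.shift_of_commute (x := ω.mono 0 (by simp) (pairPerm a b)) rfl hv (by
      have h2 := Subgroup.inv_mem _ (h _ (ω.mono_mem (S := pairGroup) 0 (by simp) ⟨a, b, rfl⟩))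
      simpa [_root_.mul_inv_rev, mul_assoc] using h2)
  exact shift_block v (hflip 1 0) (hflip 0 1)

include ω in
/-- `D` is the only subgroup of order 243 of the Sylow subgroup abelian modulo the centre. -/
theorem Omega.unique_diag {X : Subgroup (Cfsg.SU 6 F 2)} (hX : X ≤ ω.syl) (hc : Nat.card X = 243)
    (hab : ∀ x ∈ X, ∀ y ∈ X, x * y * x⁻¹ * y⁻¹ ∈ Subgroup.center (Cfsg.SU 6 F 2)) : X = ω.diagSub := by
  classical
  by_contra hne
  choose vv pp hpp hmm using fun x : X => hX x.2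
  let f : X →* Equiv.Perm (Fin 6) :=
    { toFun := pp
      map_one' := ((ω.monoMat_inj ((hmm 1).symm.trans (matOf_one.trans ω.monoMat_one.symm))).2)
      map_mul' := fun x y => (ω.monoMat_inj (((hmm (x * y)).symm.trans (by
        rw [show ((x * y : X) : Cfsg.SU 6 F 2) = (x : Cfsg.SU 6 F 2) * y from rfl, matOf_mul, hmm x, hmm y,
          ω.monoMat_mul])))).2 }
  have hr : f.range ≤ pairGroup := by
    rintro _ ⟨x, rfl⟩; exact hpp x
  have hprod : Nat.card f.ker * Nat.card f.range = 243 := by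
    rw [← hc, Subgroup.card_eq_card_quotient_mul_card_subgroup f.ker,
      Nat.card_congr (QuotientGroup.quotientKerEquivRange f).toEquiv, mul_comm]
  have hker : ∀ (s : Finset (V6)), (∀ x : X, f x = 1 → vv x ∈ s) → Nat.card f.ker ≤ s.card := by
    intro s hs
    rw [← Nat.card_eq_finsetCard]
    refine Nat.card_le_card_of_injective (fun x => ⟨vv x.1, hs x.1 x.2⟩) fun x y e => ?_
    have hp : pp x.1 = pp y.1 := (show f x.1 = 1 from x.2).trans (show f y.1 = 1 from y.2).symm
    refine Subtype.ext (Subtype.ext (matOf_injective ?_))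
    rw [hmm, hmm, show vv x.1 = vv y.1 from congrArg Subtype.val e, hp]
  obtain ⟨x₀, hx₀⟩ : ∃ x : X, f x ≠ 1 := by
    by_contra hall
    push Not at hall
    refine hne (Subgroup.eq_of_le_of_card_ge (fun x hx => ⟨_, pp ⟨x, hx⟩, hall ⟨x, hx⟩, hmm ⟨x, hx⟩⟩)
      (by rw [ω.card_diagSub, hc]))
  have hshift : ∀ x y : X, f y = 1 → ShiftOK (f x) (vv y) := fun x y hy =>
    ω.shift_of_commute (hmm x) ((hmm y).trans (by rw [show pp y = 1 from hy])) (hab x x.2 y y.2)
  obtain ⟨a, b, hab0⟩ := hpp x₀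
  have h27 : Nat.card f.ker ≤ 27 :=
    (hker _ fun y hy => Finset.mem_filter.2 ⟨Finset.mem_univ _, ω.sum_eq_zero (hmm y),
      hab0 ▸ hshift x₀ y hy⟩).trans (shift_bound a b (by
        intro e
        obtain ⟨rfl, rfl⟩ := Prod.mk.injEq .. ▸ e
        exact hx₀ (hab0.trans rfl)))
  have h9 : Nat.card f.range ≤ 9 := card_pairGroup ▸ Subgroup.card_le_of_le hr
  have hfull : f.range = pairGroup :=
    Subgroup.eq_of_le_of_card_ge hr (by rw [card_pairGroup]; nlinarith)
  obtain ⟨x1, h1⟩ : pairPerm 1 0 ∈ f.range := hfull ▸ ⟨1, 0, rfl⟩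
  obtain ⟨x2, h2⟩ : pairPerm 0 1 ∈ f.range := hfull ▸ ⟨0, 1, rfl⟩
  have h99 : Nat.card f.ker ≤ 9 :=
    (hker _ fun y hy => Finset.mem_filter.2 ⟨Finset.mem_univ _, ω.sum_eq_zero (hmm y),
      h1 ▸ hshift x1 y hy, h2 ▸ hshift x2 y hy⟩).trans shift_bound_two
  nlinarith

end CfsgLib.SixTwo
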