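import Cfsg.Agent.SixTwo.Iso

/-!
Word certificates: the candidates, the action of the odd transposition, and the separation of the classes.
-/

set_option autoImplicit false
set_option maxRecDepth 100000

namespace CfsgLib.SixTwo

open Matrix

/-- The exponents of the central element of the Sylow subgroup. -/
def zExp : Fin 6 → ZMod 3 := fun i => if i.val < 3 then 0 else 1

/-- The code of a candidate. -/
def candMatC (p e : ℕ) : List ℕ := if e = 0 then blocksC.getD p [] else mulM (blocksC.getD p []) swapC

/-- A word in the monomial generators followed by the extra letters. -/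
def wordC (extra : List (List ℕ)) (w : List ℕ) : List ℕ :=
  prodM (w.map fun k => if k < 9 then gensC.getD k [] else extra.getD (k - 9) [])

/-- Two coded matrices differ. -/
def neqC (A B : List ℕ) : Bool := (List.range 6).any fun i => (List.range 6).any fun j => ent A i j != ent B i j

/-- The certificate of one candidate. -/
def certB (r : List ℕ) : Bool :=
  let W := wordC [candMatC (r.getD 0 0) (r.getD 1 0)] (r.drop 4)
  match r.getD 2 0 with
  | 0 => decide (r.getD 3 0 < 3) && W == fiveC.getD (r.getD 3 0) []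
  | 1 => W == swapC
  | _ => neqC W oneM && prodM (List.replicate 11 W) == oneM

theorem cand_ok : ((List.range 16).all fun p => (List.range 2).all fun e => (p == 0 && e == 0) ||
    candC.any fun r => r.getD 0 0 == p && r.getD 1 0 == e && certB r) = true := by decide +kernel

theorem norm_ok : ((List.range 3).all fun c => wordC [fiveC.getD c []] (normC.getD c []) ==
    mulM (mulM swapC (fiveC.getD c [])) swapC) = true := by decide +kernel

theorem split_ok : ([(0, 1, 0), (0, 2, 1), (1, 2, 2)].all fun (x : ℕ × ℕ × ℕ) =>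
    let W := wordC [fiveC.getD x.1 [], fiveC.getD x.2.1 []] (splitC.getD x.2.2 [])
    neqC W oneM && prodM (List.replicate 11 W) == oneM) = true := by decide +kernel

theorem second_conj : mulM secondC (monoC zExp 1) = mulM (monoC zExp 1) secondC ∧
    ∃ i i' j : Fin 6, i ≠ i' ∧ ent secondC i j ≠ 0 ∧ ent secondC i' j ≠ 0 := by decide +kernel

variable {F : Type*} [Field F] [Fintype F] (ω : Omega F)

theorem Omega.zExp_sum : ∑ i, zExp i = 0 := by decide +kernel

/-- The candidate. -/
def Omega.cand (a b : Fin 4) (e : Bool) : Cfsg.SU 6 F 2 :=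
  ω.blockElt a b * if e then ω.mono 0 (by simp) (Equiv.swap 0 1) else 1

theorem Omega.mat_cand (a b : Fin 4) (e : Bool) :
    matOf (ω.cand a b e) = ω.mat (candMatC (4 * a + b) (if e then 1 else 0)) := by
  cases e
  · rw [Omega.cand, if_neg (by simp), mul_one, ω.mat_blockElt]; rfl
  · rw [Omega.cand, if_pos rfl, matOf_mul, ω.mat_blockElt, ω.mat_mono, ← ω.mat_monoC, ← ω.mat_mul,
      ← gens_mono.2.2]
    rfl

/-- The value of a word. -/
def Omega.wordElt (ω : Omega F) (extra : List (Cfsg.SU 6 F 2)) (w : List ℕ) : Cfsg.SU 6 F 2 :=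
  (w.map fun k => if k < 9 then ω.gen k else extra.getD (k - 9) 1).prod

theorem Omega.wordElt_mem {X : Subgroup (Cfsg.SU 6 F 2)} (hM : ω.monoAlt ≤ X) {extra : List (Cfsg.SU 6 F 2)}
    (h : ∀ g ∈ extra, g ∈ X) (w : List ℕ) : ω.wordElt extra w ∈ X := by
  refine list_prod_mem fun x hx => ?_
  obtain ⟨k, -, rfl⟩ := List.mem_map.1 hx
  split
  · next hk => exact hM (ω.gen_mem_monoAlt hk)
  · by_cases hlen : k - 9 < extra.length
    · rw [List.getD_eq_getElem _ _ hlen]; exact h _ (List.getElem_mem _)
    · rw [List.getD_eq_default _ _ (by omega)]; exact one_mem _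

theorem Omega.mat_wordElt {extra : List (Cfsg.SU 6 F 2)} {extraC : List (List ℕ)}
    (h : ∀ i, matOf (extra.getD i 1) = ω.mat (extraC.getD i []) ∨ extraC.length ≤ i)
    (w : List ℕ) (hw : ∀ k ∈ w, k < 9 + extraC.length) : matOf (ω.wordElt extra w) = ω.mat (wordC extraC w) := by
  induction w with
  | nil => rw [Omega.wordElt, wordC, List.map_nil, List.map_nil, List.prod_nil, prodM, ω.mat_one, matOf_one]
  | cons k w ih =>
    have hk := hw k (by simp)
    have ih' := ih fun j hj => hw j (List.mem_cons_of_mem _ hj)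
    rw [Omega.wordElt, wordC] at ih' ⊢
    rw [List.map_cons, List.map_cons, List.prod_cons, prodM, ω.mat_mul, matOf_mul, ih']
    congr 1
    split
    · next h9 => exact ω.mat_gen (by omega)
    · next h9 => exact (h (k - 9)).resolve_right (by omega)

theorem Omega.mat_word_one {g : Cfsg.SU 6 F 2} {A : List ℕ} (hg : matOf g = ω.mat A) (w : List ℕ)
    (hw : ∀ k ∈ w, k < 10) : matOf (ω.wordElt [g] w) = ω.mat (wordC [A] w) := by
  refine ω.mat_wordElt (fun i => ?_) w (by simpa using hw)
  rcases Nat.eq_zero_or_pos i with rfl | hi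
  · exact Or.inl hg
  · exact Or.inr (by simp; omega)

theorem Omega.orderOf_eleven {g : Cfsg.SU 6 F 2} {A : List ℕ} (hg : matOf g = ω.mat A)
    (h1 : neqC A oneM = true) (h11 : prodM (List.replicate 11 A) = oneM) : orderOf g = 11 := by
  haveI : Fact (Nat.Prime 11) := ⟨by norm_num⟩
  have hpow : ∀ n : ℕ, matOf (g ^ n) = matOf g ^ n := fun n => by
    induction n with
    | zero => rfl
    | succ n ih => rw [pow_succ, matOf_mul, ih, pow_succ]
  refine orderOf_eq_prime (matOf_injective ?_) fun e => ?_
  · rw [hpow, hg, ← ω.mat_replicate, h11, ω.mat_one, matOf_one]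
  · simp only [neqC, List.any_eq_true, List.mem_range, bne_iff_ne] at h1
    obtain ⟨i, hi, j, hj, hne⟩ := h1
    refine hne (ω.mat_inj (A := A) (B := oneM) ?_ ⟨i, hi⟩ ⟨j, hj⟩)
    rw [← hg, e, matOf_one, ω.mat_one]

end CfsgLib.SixTwo
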